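import Cfsg.Agent.Lib.PSolvableLinear.Twist
import Cfsg.Agent.Lib.Coprime
import Cfsg.Agent.Lib.Blocks.HallHigman
import Cfsg.Agent.Lib.SylowExtra
import Cfsg.Agent.Lib.SmallDegrees.BelowPrime

/-!
# A `p`-solvable linear group of degree less than `p` with a non-normal Sylow `p`-subgroup
-/

namespace CfsgLib.PSolvableLinear

open Cfsg CfsgLib CfsgLib.CharTheory CfsgLib.Blocks
open scoped ComplexConjugate

set_option autoImplicit false
set_option linter.unusedSectionVars false
set_option linter.style.haveILetI false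

universe u

variable {G : Type u} [Group G] [Fintype G]

theorem res_decomp {χ : G → ℂ} (hχ : IsCharacter G χ) (H : Subgroup G) [Fintype H] {n : ℕ}
    (hn : χ 1 = (n : ℂ)) : ∃ c : IrrCharacter H → ℕ,
      (∀ h : H, χ h = ∑ ψ : IrrCharacter H, (c ψ : ℂ) * (ψ : H → ℂ) h) ∧
      n = ∑ ψ : IrrCharacter H, c ψ * charDegree (ψ : H → ℂ) := by
  classical
  have hcl : IsCharacter H (fun h : H => χ h) := isCharacter_restrict hχ H
  choose c hc using fun ψ : IrrCharacter H => classInner_char_nat hcl (isCharacter_of_irr ψ.2)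
  have h1 : ∀ h : H, χ h = ∑ ψ : IrrCharacter H, (c ψ : ℂ) * (ψ : H → ℂ) h := fun h => by
    have := congrFun (eq_sum_irr (isClassFunction_char hcl)) h
    simpa [Finset.sum_apply, hc] using this
  refine ⟨c, h1, ?_⟩
  have h2 := h1 1
  rw [OneMemClass.coe_one, hn] at h2
  simp only [← irr_charDegree_cast] at h2
  exact_mod_cast h2

/-- A character is irreducible if its restriction to a subgroup is. -/
theorem isIrr_of_res {χ : G → ℂ} (hχ : IsCharacter G χ) (H : Subgroup G) [Fintype H]
    {ψ : H → ℂ} (hψ : IsIrrCharacter H ψ) (hres : ∀ h : H, χ h = ψ h) : IsIrrCharacter G χ := by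
  classical
  obtain ⟨d, hd0, hd⟩ := irr_degree_pos hψ
  have hχ1 : χ 1 = (d : ℂ) := by rw [← hd, ← hres 1, OneMemClass.coe_one]
  obtain ⟨φ, hφ, hφc⟩ := exists_constituent hχ (fun h => by
    have := congrFun h 1
    rw [hχ1] at this
    exact hd0.ne' (Nat.cast_eq_zero.1 this))
  choose c hc using fun α : IrrCharacter G => classInner_char_nat hχ (isCharacter_of_irr α.2)
  have hsum : ∀ g : G, χ g = ∑ α : IrrCharacter G, (c α : ℂ) * (α : G → ℂ) g := fun g => by
    have := congrFun (eq_sum_irr (isClassFunction_char hχ)) g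
    simpa [Finset.sum_apply, hc] using this
  -- the number of constituents
  have hr : ∀ α : IrrCharacter G, ∃ r : ℕ, classInner (fun h : H => (α : G → ℂ) h) ψ = r :=
    fun α => classInner_char_nat (isCharacter_restrict (isCharacter_of_irr α.2) H) (isCharacter_of_irr hψ)
  choose r hr using hr
  choose cc hcc hcd using fun α : IrrCharacter G =>
    res_decomp (isCharacter_of_irr α.2) H (irr_charDegree_cast α).symm
  have hone : (1 : ℕ) = ∑ α : IrrCharacter G, c α * r α := by
    have h1 : classInner (fun h : H => χ h) ψ = 1 := by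
      rw [show (fun h : H => χ h) = ψ from funext hres, classInner_irr_self hψ]
    rw [show (fun h : H => χ h) = ∑ α : IrrCharacter G, (c α : ℂ) • fun h : H => (α : G → ℂ) h from
      funext fun h => by rw [hsum]; simp [Finset.sum_apply]] at h1
    rw [classInner_sum_left] at h1
    simp only [classInner_smul_left, hr] at h1
    exact_mod_cast h1.symm
  have hzero : ∀ (ψ' : IrrCharacter H), (ψ' : H → ℂ) ≠ ψ → ∀ α, c α * cc α ψ' = 0 := by
    intro ψ' hne
    have h1 : classInner (fun h : H => χ h) (ψ' : H → ℂ) = 0 := by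
      rw [show (fun h : H => χ h) = ψ from funext hres]
      exact classInner_irr_ne hψ ψ'.2 (Ne.symm hne)
    rw [show (fun h : H => χ h) = ∑ α : IrrCharacter G, (c α : ℂ) • fun h : H => (α : G → ℂ) h from
      funext fun h => by rw [hsum]; simp [Finset.sum_apply]] at h1
    rw [classInner_sum_left] at h1
    have h2 : ∀ α : IrrCharacter G, classInner (fun h : H => (α : G → ℂ) h) (ψ' : H → ℂ) = cc α ψ' := by
      intro α
      rw [show (fun h : H => (α : G → ℂ) h) = ∑ β : IrrCharacter H, (cc α β : ℂ) • (β : H → ℂ) from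
        funext fun h => by rw [hcc α h]; simp [Finset.sum_apply]]
      rw [classInner_sum_left, Finset.sum_eq_single ψ']
      · rw [classInner_smul_left, classInner_irr_self ψ'.2, mul_one]
      · intro β _ hb
        rw [classInner_smul_left, classInner_irr_ne β.2 ψ'.2 (fun e => hb (Subtype.ext e)), mul_zero]
      · simp
    simp only [classInner_smul_left, h2, ← Nat.cast_mul, ← Nat.cast_sum, Nat.cast_eq_zero] at h1
    exact fun α => Finset.sum_eq_zero_iff.1 h1 α (Finset.mem_univ α)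
  obtain ⟨α₀, -, hα₀⟩ := Finset.exists_ne_zero_of_sum_ne_zero (hone ▸ one_ne_zero : ∑ α : IrrCharacter G, c α * r α ≠ 0)
  have hα₀1 : c α₀ = 1 := by
    have h1 := Finset.single_le_sum (f := fun α => c α * r α) (fun _ _ => Nat.zero_le _) (Finset.mem_univ α₀)
    rw [← hone] at h1
    exact (mul_eq_one.1 (le_antisymm h1 (Nat.pos_of_ne_zero hα₀))).1
  have hother : ∀ α, α ≠ α₀ → c α = 0 := by
    intro α hα
    by_contra hcα
    have hrz : r α = 0 := by
      by_contra hrα
      have h1 := Finset.add_le_sum (f := fun α => c α * r α) (fun _ _ => Nat.zero_le _)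
        (Finset.mem_univ α) (Finset.mem_univ α₀) hα
      rw [← hone] at h1
      have := Nat.pos_of_ne_zero hα₀
      have := Nat.mul_pos (Nat.pos_of_ne_zero hcα) (Nat.pos_of_ne_zero hrα)
      omega
    obtain ⟨β, -, hβ⟩ := Finset.exists_ne_zero_of_sum_ne_zero
      (s := Finset.univ) (f := fun β : IrrCharacter H => cc α β * charDegree (β : H → ℂ)) (by
        rw [← hcd α]
        obtain ⟨dd, hdd0, hdd⟩ := irr_degree_pos α.2
        simp [charDegree, hdd]
        omega)
    by_cases e : (β : H → ℂ) = ψ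
    · have h3 := hr α
      rw [hrz, ← e, show (fun h : H => (α : G → ℂ) h) = ∑ β : IrrCharacter H, (cc α β : ℂ) • (β : H → ℂ) from
        funext fun h => by rw [hcc α h]; simp [Finset.sum_apply], classInner_sum_left,
        Finset.sum_eq_single β, classInner_smul_left, classInner_irr_self β.2, mul_one] at h3
      · exact hβ (by rw [show cc α β = 0 by exact_mod_cast h3, zero_mul])
      · intro b _ hb
        rw [classInner_smul_left, classInner_irr_ne b.2 β.2 (fun e => hb (Subtype.ext e)), mul_zero]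
      · simp
    · exact mul_ne_zero hcα (left_ne_zero_of_mul hβ) (hzero β e α)
  have : χ = (α₀ : G → ℂ) := funext fun g => by
    rw [hsum, Finset.sum_eq_single α₀ (fun α _ hα => by rw [hother α hα, Nat.cast_zero, zero_mul])
      (by simp), hα₀1, Nat.cast_one, one_mul]
  exact this ▸ α₀.2

/-- The abelian Sylow subgroup. -/
theorem sylow_comm {χ : G → ℂ} (hχ : IsCharacter G χ) (hfaith : ∀ g : G, χ g = χ 1 → g = 1) {n : ℕ}
    (hn : χ 1 = (n : ℂ)) {p : ℕ} [Fact p.Prime] (hnp : n < p) (P : Sylow p G) :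
    ∀ a ∈ (P : Subgroup G), ∀ b ∈ (P : Subgroup G), a * b = b * a := by
  classical
  haveI := Fintype.ofFinite (P : Subgroup G)
  intro a ha b hb
  obtain ⟨c, hc, hcn⟩ := res_decomp hχ (P : Subgroup G) hn
  rw [← mul_inv_eq_iff_eq_mul, ← mul_inv_eq_one]
  refine hfaith _ ?_
  have hmem : a * b * a⁻¹ * b⁻¹ ∈ (P : Subgroup G) :=
    mul_mem (mul_mem (mul_mem ha hb) (inv_mem ha)) (inv_mem hb)
  rw [show χ 1 = χ ((1 : (P : Subgroup G)) : G) from rfl, show a * b * a⁻¹ * b⁻¹ =
    ((⟨_, hmem⟩ : (P : Subgroup G)) : G) from rfl, hc, hc]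
  refine Finset.sum_congr rfl fun ψ _ => ?_
  rcases Nat.eq_zero_or_pos (c ψ) with h0 | h0
  · rw [h0, Nat.cast_zero, zero_mul, zero_mul]
  congr 1
  have hle : charDegree (ψ : ↥(P : Subgroup G) → ℂ) ≤ n := by
    rw [hcn]
    exact (Nat.le_mul_of_pos_left _ h0).trans
      (Finset.single_le_sum (f := fun ψ => c ψ * charDegree _) (fun _ _ => Nat.zero_le _) (Finset.mem_univ ψ))
  have h1 : charDegree (ψ : ↥(P : Subgroup G) → ℂ) = 1 := by
    obtain ⟨k, hk⟩ := IsPGroup.iff_card.1 P.2
    obtain ⟨i, -, hi⟩ := (Nat.dvd_prime_pow (Fact.out : p.Prime)).1 (hk ▸ charDegree_dvd_card ψ)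
    rcases Nat.eq_zero_or_pos i with rfl | hi0
    · rw [hi, pow_zero]
    · have := Nat.le_self_pow hi0.ne' p
      omega
  obtain ⟨f, hf⟩ := exists_hom_of_degree_one (isCharacter_of_irr ψ.2)
    (by rw [← irr_charDegree_cast, h1, Nat.cast_one])
  rw [hf]
  show (f ((⟨a, ha⟩ : (P : Subgroup G)) * ⟨b, hb⟩ * ⟨a, ha⟩⁻¹ * ⟨b, hb⟩⁻¹) : ℂ) = (f 1 : ℂ)
  rw [map_mul, map_mul, map_mul, map_inv, map_inv, map_one, mul_right_comm (f ⟨a, ha⟩), mul_inv_cancel,
    one_mul, mul_inv_cancel]

/-- The main statement. -/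
theorem main {χ : G → ℂ} (hχ : IsCharacter G χ) (hfaith : ∀ g : G, χ g = χ 1 → g = 1) {n : ℕ}
    (hn : χ 1 = (n : ℂ)) {p : ℕ} [Fact p.Prime] (hsolv : IsPSolvable p G) (hnp : n + 1 ≤ p)
    (P : Sylow p G) (hP : ¬ (P : Subgroup G).Normal) :
    n + 1 = p ∧ (∃ k : ℕ, n = 2 ^ k) ∧ IsIrrCharacter G χ := by
  classical
  have hp : p.Prime := Fact.out
  set K := pPrimeCore p G with hK
  have hKp : ¬ p ∣ Nat.card K := not_dvd_card_pPrimeCore hp
  have hcomm := sylow_comm hχ hfaith hn (by omega) P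
  -- some element of `P` does not centralise the core
  have hnotcent : ¬ (P : Subgroup G) ≤ Subgroup.centralizer (K : Set G) := by
    intro hcent
    apply hP
    set L := pPrimePCore p G
    haveI : L.Normal := pPrimePCore_normal'
    have hQS : ¬ p ∣ ((P : Subgroup G) ⊓ L).relIndex L := by
      rw [Subgroup.inf_relIndex_right]
      exact not_dvd_relIndex_of_sylow P L
    have hPL : (P : Subgroup G) ≤ L := by
      refine le_trans ?_ (centralizer_le_pPrimePCore hsolv inf_le_right hQS)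
      exact fun a ha b hb => hcomm b hb.1 a ha
    have hLsup : L = K ⊔ (P : Subgroup G) := by
      refine le_antisymm ?_ (sup_le pPrimeCore_le_pPrimePCore hPL)
      refine Subgroup.relIndex_eq_one.1 ?_
      obtain ⟨k, hk⟩ := relIndex_pPrimePCore (G := G) (p := p)
      refine Nat.eq_one_of_dvd_coprimes ((Nat.Coprime.pow_left k) (hp.coprime_iff_not_dvd.2 ?_))
        (hk ▸ Subgroup.relIndex_dvd_of_le_left L le_sup_left) dvd_rfl
      intro h
      exact not_dvd_relIndex_of_sylow P L (h.trans (Subgroup.relIndex_dvd_of_le_left L le_sup_right))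
    refine ⟨fun a ha g => ?_⟩
    have hy : g * a * g⁻¹ ∈ L := ‹L.Normal›.conj_mem a (hPL ha) g
    have hy' : g * a * g⁻¹ ∈ ((K ⊔ (P : Subgroup G) : Subgroup G) : Set G) := hLsup ▸ hy
    rw [Subgroup.normal_mul] at hy'
    obtain ⟨u, hu, v, hv, huv⟩ := hy'
    replace huv : u * v = g * a * g⁻¹ := huv
    obtain ⟨i, hi⟩ := P.2 ⟨a, ha⟩
    obtain ⟨j, hj⟩ := P.2 ⟨v, hv⟩
    have hi' : a ^ p ^ i = 1 := congrArg Subtype.val hi
    have hj' : v ^ p ^ j = 1 := congrArg Subtype.val hj
    have h1 : (u * v) ^ p ^ (i + j) = 1 := by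
      rw [huv, conj_pow, pow_add, pow_mul, hi', one_pow, mul_one, mul_inv_cancel]
    rw [(show Commute u v from hcent hv u hu).mul_pow,
      show v ^ p ^ (i + j) = 1 by rw [pow_add, mul_comm, pow_mul, hj', one_pow], mul_one] at h1
    have hu1 : u = 1 := by
      rw [← orderOf_eq_one_iff]
      exact Nat.eq_one_of_dvd_coprimes ((Nat.Coprime.pow_left (i + j)) (hp.coprime_iff_not_dvd.2 hKp))
        (orderOf_dvd_of_pow_eq_one h1) (Subgroup.orderOf_dvd_natCard K hu)
    rw [hu1, one_mul] at huv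
    exact huv ▸ hv
  -- a minimal such element
  obtain ⟨y, hyP, hy⟩ : ∃ y ∈ (P : Subgroup G), y ∉ Subgroup.centralizer (K : Set G) :=
    SetLike.not_le_iff_exists.1 hnotcent
  obtain ⟨i₀, hi₀⟩ := P.2 ⟨y, hyP⟩
  have hex : ∃ i, y ^ p ^ i ∈ Subgroup.centralizer (K : Set G) :=
    ⟨i₀, by rw [show y ^ p ^ i₀ = 1 from congrArg Subtype.val hi₀]; exact one_mem _⟩
  have hi1 : Nat.find hex ≠ 0 := fun e => hy (by simpa [e] using Nat.find_spec hex)
  set x := y ^ p ^ (Nat.find hex - 1) with hxdef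
  have hxC : x ∉ Subgroup.centralizer (K : Set G) := Nat.find_min hex (by omega)
  have hxpC : x ^ p ∈ Subgroup.centralizer (K : Set G) := by
    rw [hxdef, ← pow_mul, ← pow_succ, show Nat.find hex - 1 + 1 = Nat.find hex by omega]
    exact Nat.find_spec hex
  have hxP : x ∈ (P : Subgroup G) := pow_mem hyP _
  obtain ⟨k, hk⟩ : ∃ k, orderOf x = p ^ k := by
    obtain ⟨i, hi⟩ := P.2 ⟨x, hxP⟩
    obtain ⟨j, -, hj⟩ := (Nat.dvd_prime_pow hp).1
      (orderOf_dvd_of_pow_eq_one (congrArg Subtype.val hi : x ^ p ^ i = 1))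
    exact ⟨j, hj⟩
  -- an invariant Sylow subgroup of the core
  set A := Subgroup.zpowers x with hA
  have hAK : A ≤ Subgroup.normalizer (K : Set G) := by
    rw [Subgroup.normalizer_eq_top]; exact le_top
  have hcopA : (Nat.card A).Coprime (Nat.card K) := by
    rw [hA, Nat.card_zpowers, hk]
    exact Nat.Coprime.pow_left _ (hp.coprime_iff_not_dvd.2 hKp)
  have hsolvA : Group.IsSolvable A ∨ Group.IsSolvable K :=
    Or.inl (Group.isSolvable_of_comm fun a b => mul_comm' a b)
  obtain ⟨q, hq, Q, hQA, hQx⟩ : ∃ q : ℕ, q.Prime ∧ ∃ Q : Sylow q K,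
      A ≤ Subgroup.normalizer ((Q : Subgroup K).map K.subtype : Set G) ∧
      x ∉ Subgroup.centralizer (((Q : Subgroup K).map K.subtype : Subgroup G) : Set G) := by
    by_contra hno
    push Not at hno
    apply hxC
    set W := (Subgroup.centralizer ({x} : Set G)).subgroupOf K with hW
    suffices hWtop : W = ⊤ by
      intro u hu
      exact (Subgroup.mem_centralizer_singleton_iff.1
        (Subgroup.mem_subgroupOf.1 (hWtop ▸ Subgroup.mem_top (⟨u, hu⟩ : K))))
    refine Subgroup.index_eq_one.1 (Nat.eq_one_iff_not_exists_prime_dvd.2 fun r hr hrd => ?_)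
    haveI := Fact.mk hr
    obtain ⟨R, hR⟩ := coprime_exists_invariant_sylow hAK hcopA hsolvA r
    refine R.not_dvd_index (hrd.trans (Subgroup.index_dvd_of_le fun u hu => ?_))
    rw [hW, Subgroup.mem_subgroupOf, Subgroup.mem_centralizer_singleton_iff]
    exact hno r hr R hR (u : G) (Subgroup.mem_map_of_mem _ hu)
  haveI := Fact.mk hq
  set Q' := (Q : Subgroup K).map K.subtype with hQ'
  obtain ⟨e, he⟩ := IsPGroup.iff_card.1 Q.2
  have hQ'card : Nat.card Q' = q ^ e := by
    rw [hQ', Subgroup.card_map_of_injective K.subtype_injective, he]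
  obtain ⟨w, hw, hwx⟩ : ∃ w ∈ Q', w * x ≠ x * w := by
    by_contra hno
    push Not at hno
    exact hQx hno
  have hqp : q ≠ p := by
    intro hqp
    subst hqp
    have hdvd : Nat.card Q' ∣ Nat.card K := Subgroup.card_dvd_of_le (Subgroup.map_subtype_le _)
    rw [hQ'card] at hdvd
    rcases Nat.eq_zero_or_pos e with rfl | he0
    · rw [pow_zero, Subgroup.card_eq_one] at hQ'card
      rw [hQ'card, Subgroup.mem_bot] at hw
      simp [hw] at hwx
    · exact hKp ((dvd_pow_self q he0.ne').trans hdvd)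
  -- the subgroup generated
  set H := Q' ⊔ A with hH
  haveI := Fintype.ofFinite H
  have hN : (Q'.subgroupOf H).Normal :=
    (Subgroup.normal_subgroupOf_iff_le_normalizer le_sup_left).2 (sup_le Subgroup.le_normalizer hQA)
  set xH : H := ⟨x, Subgroup.mem_sup_right (Subgroup.mem_zpowers x)⟩ with hxH
  have hgen : Q'.subgroupOf H ⊔ Subgroup.zpowers xH = ⊤ := by
    apply Subgroup.map_injective H.subtype_injective
    rw [Subgroup.map_sup, MonoidHom.map_zpowers, Subgroup.subgroupOf_map_subtype,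
      inf_eq_left.2 le_sup_left, ← MonoidHom.range_eq_map, Subgroup.range_subtype]
    rfl
  have hcent : xH ^ p ∈ Subgroup.center H := by
    rw [Subgroup.mem_center_iff]
    intro g
    refine Subtype.ext ?_
    show (g : G) * x ^ p = x ^ p * g
    have hle : H ≤ Subgroup.centralizer ({x ^ p} : Set G) := by
      refine sup_le (fun u hu => ?_) ?_
      · rw [Subgroup.mem_centralizer_singleton_iff]
        exact hxpC u (Subgroup.map_subtype_le _ hu)
      · rw [hA, Subgroup.zpowers_le, Subgroup.mem_centralizer_singleton_iff]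
        exact (Commute.self_pow x p).eq
    exact Subgroup.mem_centralizer_singleton_iff.1 (hle g.2)
  obtain ⟨c, hc, hcn⟩ := res_decomp hχ H hn
  set wH : H := ⟨w, Subgroup.mem_sup_left hw⟩
  obtain ⟨ψ, hcψ, hψne⟩ : ∃ ψ : IrrCharacter H, c ψ ≠ 0 ∧
      (ψ : H → ℂ) (xH * wH * xH⁻¹ * wH⁻¹) ≠ (ψ : H → ℂ) 1 := by
    by_contra hno
    push Not at hno
    apply hwx
    have h1 : ((xH * wH * xH⁻¹ * wH⁻¹ : H) : G) = 1 := by
      refine hfaith _ ?_
      rw [show χ 1 = χ ((1 : H) : G) from rfl, hc, hc]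
      refine Finset.sum_congr rfl fun ψ _ => ?_
      rcases Nat.eq_zero_or_pos (c ψ) with h0 | h0
      · rw [h0, Nat.cast_zero, zero_mul, zero_mul]
      · rw [hno ψ h0.ne']
    have h2 : x * w * x⁻¹ * w⁻¹ = 1 := h1
    rw [mul_inv_eq_one, mul_inv_eq_iff_eq_mul] at h2
    exact h2.symm
  obtain ⟨d, hd⟩ : ∃ d : ℕ, (ψ : H → ℂ) 1 = (d : ℂ) := ⟨_, (irr_charDegree_cast ψ).symm⟩
  have hdd : charDegree (ψ : H → ℂ) = d := by exact_mod_cast (irr_charDegree_cast ψ).trans hd
  have hterm : c ψ * d ≤ n := by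
    rw [hcn, ← hdd]
    exact Finset.single_le_sum (f := fun ψ => c ψ * charDegree _) (fun _ _ => Nat.zero_le _) (Finset.mem_univ ψ)
  have hdn : d ≤ n := (Nat.le_mul_of_pos_left _ (Nat.pos_of_ne_zero hcψ)).trans hterm
  obtain ⟨hdp, j, hj⟩ := degree_eq_pred hp hq hqp (N := Q'.subgroupOf H)
    (by rw [Nat.card_congr (Subgroup.subgroupOfEquivOfLe le_sup_left).toEquiv, hQ'card])
    (x := xH) (k := k) (by rw [← hk]; exact Subgroup.orderOf_coe xH ▸ rfl) hgen hcent ψ.2 hd (by omega)
    ⟨wH, Subgroup.mem_subgroupOf.2 hw, hψne⟩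
  have hnd : n = d := by omega
  refine ⟨by omega, ?_, ?_⟩
  · rcases Nat.eq_zero_or_pos j with rfl | hj0
    · exact ⟨0, by rw [pow_zero] at hj ⊢; omega⟩
    refine ⟨j, ?_⟩
    have hodd : Odd p := hp.odd_of_ne_two (by
      intro hp2
      have : 2 ≤ q ^ j := hq.two_le.trans (Nat.le_self_pow hj0.ne' q)
      omega)
    have heven : 2 ∣ q ^ j := by
      rw [← hj]
      obtain ⟨r, hr⟩ := hodd
      exact ⟨r, by omega⟩
    have := (Nat.prime_dvd_prime_iff_eq Nat.prime_two hq).1 (Nat.prime_two.dvd_of_dvd_pow heven)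
    rw [hnd, hj, this]
  · refine isIrr_of_res hχ H ψ.2 fun h => ?_
    have hd0 : 0 < d := by
      obtain ⟨d', hd', e'⟩ := irr_degree_pos ψ.2
      rw [hd] at e'
      have : d = d' := by exact_mod_cast e'
      omega
    have hc1 : c ψ = 1 := by
      have := Nat.le_of_mul_le_mul_right (a := c ψ) (b := 1) (c := d) (by omega) hd0
      omega
    rw [hc, Finset.sum_eq_single ψ, hc1, Nat.cast_one, one_mul]
    · intro β _ hβ
      have h1 := Finset.add_le_sum (f := fun ψ : IrrCharacter H => c ψ * charDegree (ψ : H → ℂ))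
        (fun _ _ => Nat.zero_le _) (Finset.mem_univ β) (Finset.mem_univ ψ) hβ
      rw [← hcn, hdd, hc1, one_mul, hnd] at h1
      obtain ⟨d', hd', e'⟩ := irr_degree_pos β.2
      have hdb : charDegree (β : H → ℂ) = d' := by exact_mod_cast (irr_charDegree_cast β).trans e'
      rw [hdb] at h1
      have : c β = 0 := by
        rcases Nat.eq_zero_or_pos (c β) with h0 | h0
        · exact h0
        · have := Nat.mul_pos h0 hd'
          omega
      rw [this, Nat.cast_zero, zero_mul]
    · simp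

end CfsgLib.PSolvableLinear
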