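import Cfsg.Agent.Lib.PSolvableLinear.Main
import Cfsg.Agent.Lib.CharTheory.Gallagher

/-!
# An invariant constituent below an abelian chief factor
-/

namespace CfsgLib.PSolvableLinear

open Cfsg CfsgLib CfsgLib.CharTheory CfsgLib.Blocks
open scoped ComplexConjugate

set_option autoImplicit false
set_option linter.unusedSectionVars false
set_option linter.style.haveILetI false

universe u

variable {M : Type u} [Group M] [Fintype M]

/-- The norm of a multiple of an irreducible restriction, for a character vanishing off `N`. -/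
theorem sq_mult_eq_index (N : Subgroup M) [Fintype N] {ψ : M → ℂ} (hψ : IsIrrCharacter M ψ)
    {θ : N → ℂ} (hθ : IsIrrCharacter N θ) {e : ℕ} (hres : (fun n : N => ψ n) = (e : ℂ) • θ)
    (hvan : ∀ g : M, g ∉ N → ψ g = 0) : e ^ 2 = N.index := by
  classical
  have h1 := classInner_irr_self hψ
  simp only [classInner] at h1
  rw [inv_mul_eq_iff_eq_mul₀ (Nat.cast_ne_zero.2 Nat.card_pos.ne'), mul_one] at h1
  have h2 : ∑ g : M, ψ g * conj (ψ g) = ∑ n : N, ψ n * conj (ψ n) := by
    rw [← Finset.sum_subset (Finset.subset_univ ((Finset.univ : Finset N).map ⟨Subtype.val, Subtype.val_injective⟩))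
      (fun g _ hg => by
        rw [hvan g fun hgN => hg (Finset.mem_map.2 ⟨⟨g, hgN⟩, Finset.mem_univ _, rfl⟩), zero_mul]),
      Finset.sum_map]
    rfl
  have h3 := classInner_irr_self hθ
  simp only [classInner] at h3
  rw [inv_mul_eq_iff_eq_mul₀ (Nat.cast_ne_zero.2 Nat.card_pos.ne'), mul_one] at h3
  have h4 : ∑ n : N, ψ n * conj (ψ n) = (e : ℂ) ^ 2 * (Nat.card N : ℂ) := by
    rw [← h3, Finset.mul_sum]
    refine Finset.sum_congr rfl fun n _ => ?_
    rw [show ψ n = (e : ℂ) * θ n from congrFun hres n, map_mul, Complex.conj_natCast]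
    ring
  rw [h2, h4] at h1
  have h5 : e ^ 2 * Nat.card N = Nat.card M := by exact_mod_cast h1
  rw [← N.card_mul_index, mul_comm (Nat.card N)] at h5
  exact Nat.eq_of_mul_eq_mul_right Nat.card_pos h5

/-- If the support generates the group over `N`, the restriction is irreducible. -/
theorem mult_eq_one (N : Subgroup M) [N.Normal] [Fintype N]
    (hab : ∀ x y : M, x * y * x⁻¹ * y⁻¹ ∈ N) {ψ : M → ℂ} (hψ : IsIrrCharacter M ψ)
    {θ : N → ℂ} (hθ : IsIrrCharacter N θ) {e : ℕ} (hres : (fun n : N => ψ n) = (e : ℂ) • θ)
    (hgen : Subgroup.closure ({g : M | ψ g ≠ 0} ∪ (N : Set M)) = ⊤) : e = 1 := by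
  classical
  have hc := isCharacter_mul (isCharacter_of_irr hψ) (isCharacter_conj (isCharacter_of_irr hψ))
  have hC := isCharacter_cosetAvg N hc
  set F := cosetAvg N (ψ * fun g => conj (ψ g)) with hF
  have hcoef : ∀ α : IrrCharacter M, classInner F (α : M → ℂ) =
      if (α : M → ℂ) = fun _ => 1 then 1 else 0 := by
    intro α
    rcases kernel_or_cosetAvg_eq_zero N α.2 with hk | hz
    · rw [hF, classInner_cosetAvg_left N _ (apply_mul_of_kernel N (isCharacter_of_irr α.2) hk)]
      have hα1 := irr_degree_one_of_kernel_commutator N hab α.2 hk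
      have hψ' : classInner (ψ * fun g => conj (ψ g)) (α : M → ℂ) =
          classInner ψ (ψ * (α : M → ℂ)) := by
        simp only [classInner, Pi.mul_apply, map_mul]
        congr 1
        exact Finset.sum_congr rfl fun g _ => by ring
      rw [hψ']
      split_ifs with h
      · rw [h, show (ψ * fun _ : M => (1 : ℂ)) = ψ from funext fun g => mul_one _, classInner_irr_self hψ]
      · refine classInner_irr_ne hψ (isIrrCharacter_mul_linear hψ α.2 hα1) fun heq => h ?_
        obtain ⟨f, hf⟩ := exists_hom_of_degree_one (isCharacter_of_irr α.2) hα1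
        have htriv : Subgroup.closure ({g : M | ψ g ≠ 0} ∪ (N : Set M)) ≤ f.ker := by
          rw [Subgroup.closure_le]
          rintro g (hg | hg)
          · refine MonoidHom.mem_ker.2 (Units.ext ?_)
            have h1 := congrFun heq g
            simp only [Pi.mul_apply, hf] at h1
            rw [Units.val_one]
            exact mul_left_cancel₀ hg (by rw [mul_one]; exact h1.symm)
          · refine MonoidHom.mem_ker.2 (Units.ext ?_)
            have h1 := hk g hg
            simp only [hf, map_one] at h1
            exact h1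
        rw [hgen] at htriv
        rw [hf]
        funext g
        rw [MonoidHom.mem_ker.1 (htriv (Subgroup.mem_top g)), Units.val_one]
    · have h0 : classInner F (α : M → ℂ) = classInner F (cosetAvg N (α : M → ℂ)) := by
        have e1 := congrArg conj (classInner_cosetAvg_left N (α : M → ℂ) (β := F) (cosetAvg_mul_left N _))
        rw [classInner_comm, classInner_comm] at e1
        exact e1.symm
      have hα1 : (α : M → ℂ) ≠ fun _ => 1 := by
        intro h
        have := congrFun hz 1
        rw [h] at this
        simp [cosetAvg] at this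
      rw [if_neg hα1, h0, hz]
      simp [classInner]
  have hF1 : F 1 = 1 := by
    have h := congrFun (eq_sum_irr (isClassFunction_char hC)) 1
    rw [h, Finset.sum_apply, Finset.sum_eq_single (⟨fun _ => 1, isIrrCharacter_one⟩ : IrrCharacter M)]
    · rw [Pi.smul_apply, hcoef]
      simp
    · intro α _ hα
      rw [Pi.smul_apply, hcoef, if_neg (fun h => hα (Subtype.ext h)), zero_smul]
    · simp
  have h3 := classInner_irr_self hθ
  simp only [classInner] at h3
  have hFe : F 1 = (e : ℂ) ^ 2 := by
    simp only [hF, cosetAvg, mul_one, Pi.mul_apply]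
    calc (Nat.card N : ℂ)⁻¹ * ∑ n : N, ψ n * conj (ψ n)
        = (e : ℂ) ^ 2 * ((Nat.card N : ℂ)⁻¹ * ∑ n : N, θ n * conj (θ n)) := by
          rw [mul_left_comm, Finset.mul_sum (a := (e : ℂ) ^ 2)]
          congr 1
          refine Finset.sum_congr rfl fun n _ => ?_
          rw [show ψ n = (e : ℂ) * θ n from congrFun hres n, map_mul, Complex.conj_natCast]
          ring
      _ = _ := by rw [h3, mul_one]
  rw [hF1] at hFe
  have : e ^ 2 = 1 := by exact_mod_cast hFe.symm
  exact (Nat.pow_eq_one.1 this).resolve_right two_ne_zero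

end CfsgLib.PSolvableLinear
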