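import Cfsg.Agent.Lib.CharTheory.CanonicalGalois
import Cfsg.Agent.Lib.CharTheory.PRational
import Cfsg.Agent.Lib.PSolvableLinear.Main

/-!
# A rational character of a `p`-group acting on a linear `p'`-group
-/

namespace CfsgLib.PSolvableLinear

open Cfsg CfsgLib CfsgLib.CharTheory CfsgLib.Blocks
open scoped ComplexConjugate

set_option autoImplicit false
set_option linter.unusedSectionVars false
set_option linter.style.haveILetI false

universe u

variable {G : Type u} [Group G] [Fintype G]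

theorem detOrder_dvd_card {N : Subgroup G} {θ : N → ℂ} (hθ : IsIrrCharacter N θ) :
    detOrder θ ∣ Nat.card N := by
  obtain ⟨m, ρ, -, rfl⟩ := hθ
  rw [detOrder_eq]
  refine orderOf_dvd_of_pow_eq_one (MonoidHom.ext fun x => ?_)
  rw [MonoidHom.pow_apply, ← map_pow, pow_card_eq_one', map_one, MonoidHom.one_apply]

/-- The canonical extension is fixed by every power map fixing the character. -/
theorem exists_fixed_extension_all {N : Subgroup G} [hN : N.Normal] {θ : N → ℂ}
    (hθ : IsIrrCharacter N θ) (hinv : ∀ g : G, conjNormFun N g θ = θ) {d : ℕ} (hd : θ 1 = d)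
    (hcop : N.index.Coprime d) (hdet : N.index.Coprime (detOrder θ)) :
    ∃ χ : G → ℂ, IsIrrCharacter G χ ∧ (∀ n : N, χ n = θ n) ∧
      ∀ k : ℕ, k.Coprime (Nat.card G) → (∀ n : N, n ^ k = n) → ∀ g : G, χ (g ^ k) = χ g := by
  classical
  haveI := Fintype.ofFinite N
  obtain ⟨m, ρ, hρ, hρθ⟩ := id hθ
  set δ : N →* ℂˣ := detHom ρ with hδ
  have hδv : detChar θ = fun n => ((δ n : ℂˣ) : ℂ) := by rw [← hρθ, detChar_eq]
  have hδo : detOrder θ = orderOf δ := by rw [← hρθ, detOrder_eq]
  have hδinv : ∀ (g : G) (n : N), δ (MulAut.conjNormal g n) = δ n := by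
    intro g n
    have h := Glauberman.Cyclic.detChar_comp (isCharacter_of_irr hθ) (MulAut.conjNormal g).toMonoidHom n
    have e : (fun x => θ ((MulAut.conjNormal g).toMonoidHom x)) = θ := by
      have h2 := hinv g
      rw [conjNormFun_eq] at h2
      exact h2
    rw [e, hδv] at h
    exact Units.ext h.symm
  obtain ⟨M0, hM0, hM0o, hM0u⟩ := exists_hom_extending_coprime δ hδinv (hδo ▸ hdet)
  obtain ⟨χ, hχ, hχN, hχd⟩ := exists_extension_det hθ (fun g n => congrFun (hinv g) n) hd hcop M0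
    (fun n => by rw [hδv, hM0])
  refine ⟨χ, hχ, hχN, fun k hk hfix g => congrFun (extension_det_unique hθ hd hcop hχ hχN
    (isIrrCharacter_pow hχ hk) (fun n => ?_) ?_) g⟩
  · show χ ((n : G) ^ k) = θ n
    rw [← Subgroup.coe_pow, hχN, hfix]
  let pk : ℂˣ →* ℂˣ := powMonoidHom k
  have hM1 : pk.comp M0 = M0 := by
    refine hM0u _ (fun n => ?_) ?_
    · show (M0 (n : G)) ^ k = δ n
      rw [hM0, ← map_pow, hfix]
    · refine Nat.Coprime.coprime_dvd_right ?_ (hδo ▸ hdet)
      rw [← hM0o]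
      refine orderOf_dvd_of_pow_eq_one (MonoidHom.ext fun g => ?_)
      show ((M0 g) ^ k) ^ orderOf M0 = 1
      rw [← pow_mul, mul_comm, pow_mul, ← MonoidHom.pow_apply, pow_orderOf_eq_one, MonoidHom.one_apply,
        one_pow]
  funext g
  rw [detChar_pow hχ hk, hχd]
  have h : (M0 g) ^ k = M0 g := congrFun (congrArg DFunLike.coe hM1) g
  show ((M0 (g ^ k) : ℂˣ) : ℂ) = _
  rw [map_pow, h]

/-- One constituent: a rational replacement of the same kernel on `K`. -/
theorem exists_fixed_above (K : Subgroup G) [K.Normal] [Fintype K] {p : ℕ} (hp : p.Prime)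
    (hKp : ¬ p ∣ Nat.card K) {a : ℕ} (hidx : K.index = p ^ a) (ψ : IrrCharacter G) :
    ∃ φ : G → ℂ, IsCharacter G φ ∧ ∃ m : ℕ, φ 1 = (m : ℂ) ∧ m ≤ charDegree (ψ : G → ℂ) ∧
      (∀ k : ℕ, k.Coprime (Nat.card G) → (∀ n : K, n ^ k = n) → ∀ g : G, φ (g ^ k) = φ g) ∧
      ∀ u : K, φ u = φ 1 → (ψ : G → ℂ) u = (ψ : G → ℂ) 1 := by
  classical
  have hrc : IsCharacter K (fun n : K => (ψ : G → ℂ) n) :=
    isCharacter_restrict (isCharacter_of_irr ψ.2) K
  obtain ⟨θ, hθ, hθc⟩ := exists_constituent hrc (fun h => irr_ne_zero ψ.2 (congrFun h 1))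
  set T := inertia K θ with hT
  haveI := Fintype.ofFinite T
  have hKT : K ≤ T := fun n hn => (mem_inertia K).2 (funext fun b => by
    have h := (isClassFunction_irr hθ) b ⟨n, hn⟩
    exact h)
  haveI hN : (K.subgroupOf T).Normal := Subgroup.Normal.comap inferInstance _
  haveI := Fintype.ofFinite (K.subgroupOf T)
  set e : K.subgroupOf T ≃* K := Subgroup.subgroupOfEquivOfLe hKT with he
  set θ' : K.subgroupOf T → ℂ := fun n => θ (e n) with hθ'
  have hθ'irr : IsIrrCharacter (K.subgroupOf T) θ' :=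
    isIrrCharacter_comp_surjective hθ e.toMonoidHom e.surjective
  obtain ⟨d, hd0, hd⟩ := irr_degree_pos hθ
  have hd' : θ' 1 = d := by rw [hθ']; simp [hd]
  have hcopK : ∀ r : ℕ, r ∣ Nat.card K → (K.subgroupOf T).index.Coprime r := by
    intro r hr
    refine Nat.Coprime.coprime_dvd_right hr (Nat.Coprime.coprime_dvd_left ?_
      ((hp.coprime_iff_not_dvd.2 hKp).pow_left a))
    rw [← hidx]
    exact Subgroup.relIndex_dvd_index_of_normal K T
  have hdK : d ∣ Nat.card K := by
    have h1 := charDegree_dvd_card (⟨θ, hθ⟩ : IrrCharacter K)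
    have h2 : charDegree θ = d := by simp [charDegree, hd]
    rwa [h2] at h1
  have hinv : ∀ t : T, conjNormFun (K.subgroupOf T) t θ' = θ' := fun t => funext fun n => by
    have h := congrFun ((mem_inertia K).1 t.2) (e n)
    exact h
  obtain ⟨θh, hθh, hθhN, hθhk⟩ := exists_fixed_extension_all hθ'irr hinv hd' (hcopK d hdK)
    (hcopK _ ((detOrder_dvd_card hθ'irr).trans (dvd_of_eq (Nat.card_congr e.toEquiv))))
  have hres : (fun n : K => θh ⟨n, hKT n.2⟩) = θ := funext fun n => by
    have h := hθhN (e.symm n)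
    simp only [hθ', MulEquiv.apply_symm_apply] at h
    exact h
  obtain ⟨hirr, hmult⟩ := clifford_correspondence K hθ hKT hT hθh
    (by rw [hres, classInner_irr_self hθ]; exact one_ne_zero)
  rw [hres, classInner_irr_self hθ] at hmult
  refine ⟨indFun T θh, isCharacter_of_irr hirr, T.index * d, ?_, ?_, ?_, ?_⟩
  · have h1 : θh 1 = d := by rw [← hd, ← hres]; rfl
    rw [indFun_apply_one, h1]
    push_cast
    rfl
  · obtain ⟨m, hm⟩ := classInner_char_nat hrc (isCharacter_of_irr hθ)
    have h := clifford_degree K ψ.2 hθ hθc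
    rw [← irr_charDegree_cast, hm, hd, ← Nat.cast_mul, ← Nat.cast_mul, Nat.cast_inj] at h
    have hm0 : 0 < m := Nat.pos_of_ne_zero fun e => hθc (by rw [hm, e, Nat.cast_zero])
    rw [h, mul_assoc]
    exact Nat.le_mul_of_pos_left _ hm0
  · intro k hk hfix g
    rw [indFun_pow T θh hk g]
    congr 1
    funext h
    refine hθhk k (hk.coprime_dvd_right (Subgroup.card_subgroup_dvd_card T)) (fun n => ?_) h
    refine e.injective ?_
    rw [map_pow, hfix]
  · intro u hu
    have h1 := clifford K hirr hθ (by rw [hmult]; exact one_ne_zero)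
    rw [hmult, one_smul] at h1
    have e1 := congrFun h1 u
    have e2 := congrFun h1 1
    simp only [OneMemClass.coe_one] at e2
    have h2 := clifford K ψ.2 hθ hθc
    have e3 := congrFun h2 u
    have e4 := congrFun h2 1
    simp only [OneMemClass.coe_one] at e4
    rw [e3, e4, Pi.smul_apply, Pi.smul_apply]
    congr 1
    rw [← e1, ← e2, hu]

/-- A rational character of a `p`-group normalizing a `p'`-subgroup, faithful modulo the
centralizer. -/
theorem exists_rational (K S : Subgroup G) [K.Normal] [Fintype K] [Fintype S] {p : ℕ} [Fact p.Prime]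
    (hKp : ¬ p ∣ Nat.card K) {a : ℕ} (hidx : K.index = p ^ a) (hS : IsPGroup p S)
    {χ : G → ℂ} (hχ : IsCharacter G χ) (hfaith : ∀ g : G, χ g = χ 1 → g = 1) {n : ℕ}
    (hn : χ 1 = (n : ℂ)) :
    ∃ Φ : S → ℂ, IsCharacter S Φ ∧ (∃ m : ℕ, Φ 1 = (m : ℂ) ∧ m ≤ n) ∧
      (∀ (g : S) (k : ℕ), ¬ p ∣ k → Φ (g ^ k) = Φ g) ∧
      ∀ g : S, Φ g = Φ 1 → (g : G) ∈ Subgroup.centralizer (K : Set G) := by
  classical
  have hp : p.Prime := Fact.out
  choose φ hφ m hm1 hmle hmk hmker using fun ψ : IrrCharacter G => exists_fixed_above K hp hKp hidx ψ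
  choose c hc using fun ψ : IrrCharacter G => classInner_char_nat hχ (isCharacter_of_irr ψ.2)
  have hsum : ∀ g : G, χ g = ∑ ψ : IrrCharacter G, (c ψ : ℂ) * (ψ : G → ℂ) g := fun g => by
    have := congrFun (eq_sum_irr (isClassFunction_char hχ)) g
    simpa [Finset.sum_apply, hc] using this
  have hcn : n = ∑ ψ : IrrCharacter G, c ψ * charDegree (ψ : G → ℂ) := by
    have h1 := hsum 1
    simp only [hn, ← irr_charDegree_cast] at h1
    exact_mod_cast h1
  set Φ₀ : G → ℂ := ∑ ψ : IrrCharacter G, (c ψ : ℂ) • φ ψ with hΦ₀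
  have hchar : IsCharacter G Φ₀ := isCharacter_sum _ _ fun ψ _ => isCharacter_nsmul (hφ ψ) (c ψ)
  have hval : ∀ g : G, Φ₀ g = ∑ ψ : IrrCharacter G, (c ψ : ℂ) * φ ψ g := fun g => by
    simp [Φ₀, Finset.sum_apply]
  refine ⟨fun g => Φ₀ g, isCharacter_restrict hchar S, ⟨∑ ψ : IrrCharacter G, c ψ * m ψ, ?_, ?_⟩, ?_, ?_⟩
  · show Φ₀ ((1 : S) : G) = _
    rw [hval, OneMemClass.coe_one]
    push_cast
    exact Finset.sum_congr rfl fun ψ _ => by rw [hm1]
  · rw [hcn]
    exact Finset.sum_le_sum fun ψ _ => Nat.mul_le_mul le_rfl (hmle ψ)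
  · intro g j hj
    obtain ⟨b, hb⟩ := IsPGroup.iff_card.1 hS
    obtain ⟨k, hk1, hk2⟩ := Nat.chineseRemainder
      (((hp.coprime_iff_not_dvd.2 hKp).pow_left (b + 1))) j 1
    have hkp : ¬ p ∣ k := fun h =>
      hj (((Nat.ModEq.of_dvd (dvd_pow_self p (Nat.succ_ne_zero b)) hk1).dvd_iff dvd_rfl).1 h)
    have hkG : k.Coprime (Nat.card G) := by
      rw [← Subgroup.card_mul_index K, hidx]
      refine Nat.Coprime.mul_right ?_ (((hp.coprime_iff_not_dvd.2 hkp).symm).pow_right a)
      exact Nat.coprime_of_mul_modEq_one 1 (by rw [mul_one]; exact hk2)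
    have hgj : (g : G) ^ j = (g : G) ^ k := by
      rw [pow_eq_pow_iff_modEq]
      refine (hk1.of_dvd ?_).symm
      rw [Subgroup.orderOf_coe]
      exact ((orderOf_dvd_natCard g).trans (dvd_of_eq hb)).trans (pow_dvd_pow p (Nat.le_succ b))
    show Φ₀ ((g ^ j : S) : G) = Φ₀ g
    rw [SubgroupClass.coe_pow, hgj, hval, hval]
    refine Finset.sum_congr rfl fun ψ _ => ?_
    rw [hmk ψ k hkG (fun u => ?_)]
    conv_rhs => rw [← pow_one u]
    rw [pow_eq_pow_iff_modEq]
    exact hk2.of_dvd (orderOf_dvd_natCard u)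
  · intro g hg
    rw [Subgroup.mem_centralizer_iff]
    intro u hu
    have hw : u * g * u⁻¹ * (g : G)⁻¹ ∈ K := by
      rw [mul_assoc u, mul_assoc u]
      exact K.mul_mem hu (‹K.Normal›.conj_mem _ (K.inv_mem hu) g)
    obtain ⟨mρ, ρ, hρ⟩ := id hchar
    have hg1 : ρ (g : G) = 1 := rep_apply_eq_one_of_char_eq ρ (by rw [hρ]; exact hg)
    have hw1 : Φ₀ (u * g * u⁻¹ * (g : G)⁻¹) = Φ₀ 1 := by
      have h3 : ρ (g : G)⁻¹ = 1 := by
        have := map_mul ρ (g : G) (g : G)⁻¹
        rw [mul_inv_cancel, map_one, hg1, one_mul] at this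
        exact this.symm
      have h4 : ρ (u * g * u⁻¹ * (g : G)⁻¹) = ρ 1 := by
        rw [ρ.map_mul, ρ.map_mul, ρ.map_mul, hg1, h3, mul_one, mul_one, ← ρ.map_mul, mul_inv_cancel]
      rw [show Φ₀ = ρ.character from hρ.symm, Representation.character, Representation.character, h4]
    have hone : u * g * u⁻¹ * (g : G)⁻¹ = 1 := by
      refine hfaith _ ?_
      rw [hsum, hsum]
      refine Finset.sum_congr rfl fun ψ _ => ?_
      rcases Nat.eq_zero_or_pos (c ψ) with h0 | h0
      · rw [h0, Nat.cast_zero, zero_mul, zero_mul]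
      congr 1
      refine hmker ψ ⟨_, hw⟩ ?_
      -- equality in the triangle inequality
      rw [hval, hval] at hw1
      have hre := congrArg Complex.re hw1
      simp only [Complex.re_sum] at hre
      have hle : ∀ α ∈ (Finset.univ : Finset (IrrCharacter G)),
          ((c α : ℂ) * φ α (u * g * u⁻¹ * (g : G)⁻¹)).re ≤ ((c α : ℂ) * φ α 1).re := by
        intro α _
        simp only [Complex.mul_re, Complex.natCast_re, Complex.natCast_im, zero_mul, sub_zero]
        refine mul_le_mul_of_nonneg_left ?_ (Nat.cast_nonneg _)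
        rw [hm1, Complex.natCast_re]
        exact (Complex.re_le_norm _).trans ((norm_char_le (hφ α) _).trans (le_of_eq (by rw [hm1, Complex.norm_natCast])))
      have heq := (Finset.sum_eq_sum_iff_of_le hle).1 hre ψ (Finset.mem_univ ψ)
      simp only [Complex.mul_re, Complex.natCast_re, Complex.natCast_im, zero_mul, sub_zero] at heq
      have heq' := mul_left_cancel₀ (Nat.cast_ne_zero.2 h0.ne') heq
      have hnorm := (norm_char_le (hφ ψ) (u * g * u⁻¹ * (g : G)⁻¹)).trans
        (le_of_eq (by rw [hm1, Complex.norm_natCast]))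
      rw [hm1, Complex.natCast_re] at heq'
      show φ ψ (u * g * u⁻¹ * (g : G)⁻¹) = φ ψ 1
      rw [hm1]
      set z := φ ψ (u * g * u⁻¹ * (g : G)⁻¹)
      have hsq := Complex.sq_norm z
      rw [Complex.normSq_apply, heq'] at hsq
      have h5 : z.im = 0 := by nlinarith [norm_nonneg z]
      exact Complex.ext (by simpa using heq') (by simpa using h5)
    rwa [mul_inv_eq_one, mul_inv_eq_iff_eq_mul] at hone

end CfsgLib.PSolvableLinear
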