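import Cfsg.Agent.Lib.PSolvableLinear.Rational
import Cfsg.Agent.Lib.PLocal.Offender.Dual
import Cfsg.Agent.Lib.ZJ.Complement
import Cfsg.Agent.Lib.Coprime

/-!
# The index of `O_p` in a `p`-solvable linear group
-/

namespace CfsgLib.PSolvableLinear

open Cfsg CfsgLib CfsgLib.CharTheory CfsgLib.Blocks
open scoped Pointwise

set_option autoImplicit false
set_option linter.unusedSectionVars false
set_option linter.style.haveILetI false

universe u

variable {G : Type u} [Group G] [Fintype G] {p : ℕ} [Fact p.Prime]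

/-- A supplement of `O_p(G)` normalizing a `p'`-subgroup that it acts on faithfully modulo `O_p(G)`. -/
theorem exists_supplement (hsolv : IsPSolvable p G) (P : Sylow p G) :
    ∃ K S : Subgroup G, ¬ p ∣ Nat.card K ∧ IsPGroup p S ∧
      S ≤ Subgroup.normalizer (K : Set G) ∧ pCore p G ⊔ S = (P : Subgroup G) ∧
      S ⊓ Subgroup.centralizer (K : Set G) ≤ pCore p G := by
  classical
  set M := pCore p G with hMdef
  haveI hMn : M.Normal := pCore_normal'
  have hMp : IsPGroup p M := CfsgLib.isPGroup_pCore p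
  set f := QuotientGroup.mk' M with hf
  haveI : (pPrimeCore p (G ⧸ M)).Normal := inferInstance
  set N := (pPrimeCore p (G ⧸ M)).comap f with hN
  haveI : N.Normal := Subgroup.Normal.comap inferInstance _
  have hMN : M ≤ N := fun x hx => by
    show f x ∈ pPrimeCore p (G ⧸ M)
    rw [hf, QuotientGroup.mk'_apply, (QuotientGroup.eq_one_iff x).2 hx]
    exact one_mem _
  obtain ⟨e, he⟩ := IsPGroup.iff_card.1 hMp
  have hidx : (M.subgroupOf N).index = Nat.card (pPrimeCore p (G ⧸ M)) := by
    show M.relIndex N = _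
    conv_lhs => rw [← QuotientGroup.ker_mk' M]
    rw [Subgroup.relIndex_ker, hN, Subgroup.map_comap_eq_self_of_surjective (QuotientGroup.mk'_surjective M)]
  have hp' : ¬ p ∣ Nat.card (pPrimeCore p (G ⧸ M)) := not_dvd_card_pPrimeCore Fact.out
  have hcard : Nat.card (M.subgroupOf N) = p ^ e := by
    rw [Nat.card_congr (Subgroup.subgroupOfEquivOfLe hMN).toEquiv, he]
  have hcop : (Nat.card (M.subgroupOf N)).Coprime (M.subgroupOf N).index := by
    rw [hcard, hidx]
    exact ((Fact.out : p.Prime).coprime_iff_not_dvd.2 hp').pow_left e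
  haveI : (M.subgroupOf N).Normal := Subgroup.Normal.comap inferInstance _
  have hMsol : Group.IsSolvable (M.subgroupOf N) := by
    haveI : IsPGroup p (M.subgroupOf N) := hMp.of_equiv (Subgroup.subgroupOfEquivOfLe hMN).symm
    haveI : Group.IsNilpotent (M.subgroupOf N) :=
      (hMp.of_equiv (Subgroup.subgroupOfEquivOfLe hMN).symm).isNilpotent
    infer_instance
  obtain ⟨K₀, hK₀⟩ := Subgroup.exists_right_complement'_of_coprime hcop
  set K := K₀.map N.subtype with hKdef
  have hKN : K ≤ N := Subgroup.map_subtype_le _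
  have hKcard : Nat.card K = Nat.card (pPrimeCore p (G ⧸ M)) := by
    rw [hKdef, Subgroup.card_map_of_injective N.subtype_injective, ← hK₀.symm.index_eq_card, hidx]
  have hKimg : K.map f = pPrimeCore p (G ⧸ M) := by
    refine le_antisymm (Subgroup.map_le_iff_le_comap.2 hKN) ?_
    intro y hy
    obtain ⟨x, rfl⟩ := QuotientGroup.mk'_surjective M y
    obtain ⟨⟨m, k⟩, hmk⟩ := hK₀.2 ⟨x, hy⟩
    refine ⟨((k : N) : G), Subgroup.mem_map_of_mem _ k.2, ?_⟩
    have h1 : ((m : N) : G) * ((k : N) : G) = x := congrArg Subtype.val hmk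
    rw [← h1, map_mul, hf, QuotientGroup.mk'_apply, QuotientGroup.mk'_apply,
      (QuotientGroup.eq_one_iff _).2 (Subgroup.mem_subgroupOf.1 m.2), one_mul]
  -- Frattini
  have hfrat : ∀ g : G, ∃ m ∈ M, m * g ∈ Subgroup.normalizer (K : Set G) := by
    intro g
    set K₁ := K₀.map (MulAut.conjNormal g : N ≃* N).toMonoidHom with hK₁
    have hK₁c : Subgroup.IsComplement' (M.subgroupOf N) K₁ := by
      refine Subgroup.isComplement'_of_coprime ?_ ?_
      · rw [hK₁, Subgroup.card_map_of_injective (f := (MulAut.conjNormal g : N ≃* N).toMonoidHom) (MulAut.conjNormal g : N ≃* N).injective]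
        exact hK₀.card_mul
      · rw [hK₁, Subgroup.card_map_of_injective (f := (MulAut.conjNormal g : N ≃* N).toMonoidHom) (MulAut.conjNormal g : N ≃* N).injective,
          ← hK₀.symm.index_eq_card]
        exact hcop
    obtain ⟨m, hm, hmK⟩ := complements_conj_mem hcop (Or.inl hMsol) hK₁c hK₀
    refine ⟨(m : G), Subgroup.mem_subgroupOf.1 hm, Subgroup.mem_normalizer_iff.2 fun x => ?_⟩
    have key : ∀ y ∈ K, (m : G) * g * y * ((m : G) * g)⁻¹ ∈ K := by
      rintro _ ⟨y, hy, rfl⟩
      refine ⟨m * (MulAut.conjNormal g : N ≃* N) y * m⁻¹, ?_, ?_⟩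
      · rw [← hmK]
        refine ⟨(MulAut.conjNormal g : N ≃* N) y, Subgroup.mem_map_of_mem _ hy, ?_⟩
        rfl
      · show (m : G) * (g * (y : G) * g⁻¹) * (m : G)⁻¹ = (m : G) * g * (y : G) * ((m : G) * g)⁻¹
        group
    refine ⟨key x, fun hx => ?_⟩
    have hb : Function.Bijective (fun y : K => (⟨(m : G) * g * y * ((m : G) * g)⁻¹, key y y.2⟩ : K)) := by
      refine Finite.injective_iff_bijective.1 fun a b h => Subtype.ext ?_
      simpa using congrArg Subtype.val h
    obtain ⟨y, hy⟩ := hb.2 ⟨_, hx⟩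
    have : (y : G) = x := by simpa using congrArg Subtype.val hy
    exact this ▸ y.2
  set S := (P : Subgroup G) ⊓ Subgroup.normalizer (K : Set G) with hS
  have hMP : M ≤ (P : Subgroup G) := hMp.le_sylow_of_normal P
  refine ⟨K, S, hKcard ▸ hp', P.2.to_le inf_le_left, inf_le_right, ?_, ?_⟩
  · refine le_antisymm (sup_le hMP inf_le_left) fun x hx => ?_
    obtain ⟨m, hm, hmx⟩ := hfrat x
    rw [show x = m⁻¹ * (m * x) by group]
    exact Subgroup.mul_mem_sup (M.inv_mem hm) ⟨mul_mem (hMP hm) hx, hmx⟩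
  · rintro s ⟨hsS, hsC⟩
    have hsC' : f s ∈ Subgroup.centralizer (pPrimeCore p (G ⧸ M) : Set (G ⧸ M)) := by
      intro y hy
      obtain ⟨k, hk, rfl⟩ := hKimg ▸ (hy : y ∈ pPrimeCore p (G ⧸ M))
      rw [← map_mul, ← map_mul, hsC k hk]
    have h1 := Offender.centralizer_pPrimeCore_le (Cfsg.Agent.S3744.isPSolvable_quotient hsolv M)
      (ZJ.pCore_quotient_pCore_eq_bot) hsC'
    obtain ⟨i, hi⟩ := P.2 ⟨s, hsS.1⟩
    have hi' : s ^ p ^ i = 1 := congrArg Subtype.val hi
    have h2 : f s = 1 := by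
      rw [← orderOf_eq_one_iff]
      refine Nat.eq_one_of_dvd_coprimes (((Fact.out : p.Prime).coprime_iff_not_dvd.2 hp').pow_left i)
        (orderOf_dvd_of_pow_eq_one (by rw [← map_pow, hi', map_one])) (Subgroup.orderOf_dvd_natCard _ h1)
    rwa [hf, QuotientGroup.mk'_apply, QuotientGroup.eq_one_iff] at h2

/-- The bound. -/
theorem schur_exponent (hsolv : IsPSolvable p G) {χ : G → ℂ} (hχ : IsCharacter G χ)
    (hfaith : ∀ g : G, χ g = χ 1 → g = 1) {n : ℕ} (hn : χ 1 = (n : ℂ)) :
    p ^ ((pCore p G).index.factorization p) ∣ p ^ (n / (p - 1)) * Nat.factorial (n / (p - 1)) := by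
  classical
  have hp : p.Prime := Fact.out
  obtain ⟨P⟩ : Nonempty (Sylow p G) := inferInstance
  obtain ⟨K, S, hKp, hS, hSK, hsup, hker⟩ := exists_supplement hsolv P
  set M := pCore p G with hMdef
  haveI : M.Normal := pCore_normal'
  set H := K ⊔ S with hH
  haveI := Fintype.ofFinite H
  haveI : (K.subgroupOf H).Normal :=
    (Subgroup.normal_subgroupOf_iff_le_normalizer le_sup_left).2 (sup_le Subgroup.le_normalizer hSK)
  haveI := Fintype.ofFinite (K.subgroupOf H)
  haveI := Fintype.ofFinite (S.subgroupOf H)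
  obtain ⟨a, ha⟩ : ∃ a, (K.subgroupOf H).index = p ^ a := by
    obtain ⟨b, hb⟩ := IsPGroup.iff_card.1 hS
    have h1 : (K.subgroupOf H).index = (K.subgroupOf H).relIndex (S.subgroupOf H) := by
      rw [← Subgroup.relIndex_top_right, ← Subgroup.relIndex_sup_right (H := S.subgroupOf H) (K := K.subgroupOf H)]
      congr 1
      rw [← Subgroup.subgroupOf_sup (le_sup_right : S ≤ H) (le_sup_left : K ≤ H)]
      exact (Subgroup.subgroupOf_eq_top.2 (le_of_eq (sup_comm K S))).symm
    obtain ⟨a, -, ha⟩ := (Nat.dvd_prime_pow hp).1 (dvd_trans (Subgroup.relIndex_dvd_card _ _)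
      (dvd_of_eq ((Nat.card_congr (Subgroup.subgroupOfEquivOfLe (le_sup_right : S ≤ H)).toEquiv).trans hb)))
    exact ⟨a, h1.trans ha⟩
  obtain ⟨Φ, hΦ, ⟨m, hm, hmn⟩, hrat, hcent⟩ := exists_rational (G := H) (K.subgroupOf H) (S.subgroupOf H)
    (p := p) (fun h => hKp (h.trans (dvd_of_eq (Nat.card_congr (Subgroup.subgroupOfEquivOfLe le_sup_left).toEquiv))))
    ha (hS.of_equiv (Subgroup.subgroupOfEquivOfLe le_sup_right).symm) (isCharacter_restrict hχ H)
    (fun g hg => Subtype.ext (hfaith g hg)) (n := n) hn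
  -- the kernel
  obtain ⟨mρ, ρ, hρ⟩ := id hΦ
  set C := MonoidHom.ker ρ with hC
  have hCk : ∀ g ∈ C, Φ g = Φ 1 := fun g hg => by
    rw [← hρ, Representation.character, Representation.character, MonoidHom.mem_ker.1 hg, ρ.map_one]
  obtain ⟨Ψ, hΨ, hΨe⟩ := exists_quotient_char C hΦ hCk
  haveI := Fintype.ofFinite (↥(S.subgroupOf H) ⧸ C)
  have hS'p : IsPGroup p (S.subgroupOf H) := hS.of_equiv (Subgroup.subgroupOfEquivOfLe le_sup_right).symm
  obtain ⟨b, hb⟩ := IsPGroup.iff_card.1 (hS'p.to_quotient C)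
  have hbound := schur_bound hp hb hΨ (n := m) (by rw [← hm, hΨe]; rfl)
    (fun g hg => by
      obtain ⟨x, rfl⟩ := QuotientGroup.mk'_surjective C g
      rw [QuotientGroup.mk'_apply, QuotientGroup.eq_one_iff]
      refine MonoidHom.mem_ker.2 (rep_apply_eq_one_of_char_eq ρ ?_)
      rw [hρ, hΨe]
      exact hg)
    (fun g k hk => by
      obtain ⟨x, rfl⟩ := QuotientGroup.mk'_surjective C g
      have h := hrat x k hk
      rw [hΨe] at h
      exact h)
  -- comparing the orders
  have hdvd : p ^ (M.index.factorization p) ∣ p ^ b := by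
    have h1 : p ^ (M.index.factorization p) = M.relIndex (P : Subgroup G) := by
      obtain ⟨c, hc⟩ := IsPGroup.iff_card.1 P.2
      obtain ⟨i, -, hi⟩ := (Nat.dvd_prime_pow hp).1 (hc ▸ Subgroup.relIndex_dvd_card M (P : Subgroup G))
      have hMP : M ≤ (P : Subgroup G) := (CfsgLib.isPGroup_pCore p).le_sylow_of_normal P
      rw [hi, ← Subgroup.relIndex_mul_index hMP, hi, Nat.factorization_mul (pow_ne_zero _ hp.ne_zero)
        Subgroup.index_ne_zero_of_finite, Finsupp.add_apply, hp.factorization_pow, Finsupp.single_eq_same,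
        Nat.factorization_eq_zero_of_not_dvd P.not_dvd_index, add_zero]
    have h2 : M.relIndex S = M.relIndex (P : Subgroup G) := by
      rw [← hsup, sup_comm, Subgroup.relIndex_sup_right]
    have h3 : C ≤ (M.subgroupOf H).subgroupOf (S.subgroupOf H) := by
      intro g hg
      have hg' := hcent g (hCk g hg)
      refine Subgroup.mem_subgroupOf.2 (Subgroup.mem_subgroupOf.2 (hker ⟨Subgroup.mem_subgroupOf.1 g.2, ?_⟩))
      intro u hu
      have := hg' ⟨u, Subgroup.mem_sup_left hu⟩ (Subgroup.mem_subgroupOf.2 hu)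
      exact congrArg Subtype.val this
    have h4 : ((M.subgroupOf H).subgroupOf (S.subgroupOf H)).index = M.relIndex S := by
      show (M.subgroupOf H).relIndex (S.subgroupOf H) = _
      exact Subgroup.relIndex_subgroupOf le_sup_right
    rw [h1, ← h2, ← h4, ← hb]
    exact Subgroup.index_dvd_of_le h3
  refine hdvd.trans (hbound.trans ?_)
  have hle : m / (p - 1) ≤ n / (p - 1) := Nat.div_le_div_right hmn
  exact Nat.mul_dvd_mul (pow_dvd_pow p hle) (Nat.factorial_dvd_factorial hle)

/-- The exponent of `p` in `p ^ k * k!`. -/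
theorem factorization_bound {a n : ℕ} (h : p ^ a ∣ p ^ (n / (p - 1)) * Nat.factorial (n / (p - 1))) :
    a ≤ ∑ i ∈ Finset.range (n + 1), n / ((p - 1) * p ^ i) := by
  have hp : p.Prime := Fact.out
  set k := n / (p - 1) with hk
  have hne : p ^ k * Nat.factorial k ≠ 0 := mul_ne_zero (pow_ne_zero _ hp.ne_zero) (Nat.factorial_ne_zero k)
  have h1 := (Nat.Prime.pow_dvd_iff_le_factorization hp hne).1 h
  rw [Nat.factorization_mul (pow_ne_zero _ hp.ne_zero) (Nat.factorial_ne_zero k), Finsupp.add_apply,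
    hp.factorization_pow, Finsupp.single_eq_same, Nat.factorization_def _ hp,
    padicValNat_factorial (b := n + 1) (Nat.lt_succ_of_le ((Nat.log_le_self p k).trans (Nat.div_le_self n _)))] at h1
  refine h1.trans (le_of_eq ?_)
  rw [Finset.range_eq_Ico, Finset.sum_eq_sum_Ico_succ_bot (Nat.succ_pos n), pow_zero, mul_one, ← hk]
  congr 1
  refine Finset.sum_congr rfl fun i _ => ?_
  rw [hk, Nat.div_div_eq_div_mul]

end CfsgLib.PSolvableLinear
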