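import Cfsg.Agent.Lib.CharTheory.AbelianInertia
import Cfsg.Agent.Lib.CharTheory.Gallagher
import Cfsg.Agent.Lib.CharTheory.PowerMap
import Cfsg.Agent.Lib.Blocks.Central
import Cfsg.Agent.Lib.Blocks.DefectZeroProducts
import Cfsg.Agent.Lib.Blocks.FongSwanAux

/-!
# An element of order `p` acting on a `q`-group in degree smaller than `p`
-/

namespace CfsgLib.PSolvableLinear

open Cfsg CfsgLib CfsgLib.CharTheory CfsgLib.Blocks
open scoped ComplexConjugate

set_option autoImplicit false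
set_option linter.unusedSectionVars false
set_option linter.style.haveILetI false

universe u

variable {H : Type u} [Group H] [Fintype H]

/-- If a value has maximal modulus, the corresponding powers of the roots agree. -/
theorem roots_pow_eq {s : Multiset ℂ} {N j : ℕ} (hN : N ≠ 0) (hs : ∀ r ∈ s, r ^ N = 1) {w : ℂ}
    (hw : ‖w‖ = 1) (h : (s.map (· ^ j)).sum = (Multiset.card s : ℂ) * w) :
    ∀ r ∈ s, r ^ j = w := by
  intro r hr
  have hall := all_eq_of_sum_norm (s := s.map (· ^ j))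
    (fun x hx => by
      obtain ⟨y, hy, rfl⟩ := Multiset.mem_map.1 hx
      rw [norm_pow, Complex.norm_eq_one_of_pow_eq_one (hs y hy) hN, one_pow])
    (by rw [h, Multiset.card_map, norm_mul, hw, mul_one, Complex.norm_natCast])
  have hmem : r ^ j ∈ s.map (· ^ j) := Multiset.mem_map_of_mem _ hr
  have hrep : s.map (· ^ j) = Multiset.replicate (Multiset.card s) (r ^ j) :=
    Multiset.eq_replicate.2 ⟨Multiset.card_map _ _, fun x hx => hall x hx _ hmem⟩
  rw [hrep, Multiset.sum_replicate, nsmul_eq_mul] at h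
  exact mul_left_cancel₀ (Nat.cast_ne_zero.2 (fun e => by simp [Multiset.card_eq_zero.1 e] at hr)) h

theorem sum_pow_of_eq_one {s : Multiset ℂ} {j : ℕ} (h : ∀ r ∈ s, r ^ j = 1) :
    (s.map (· ^ j)).sum = (Multiset.card s : ℂ) := by
  rw [Multiset.map_congr rfl h, Multiset.map_const', Multiset.sum_replicate, nsmul_eq_mul, mul_one]

theorem sum_range_sum_pow {s : Multiset ℂ} {p : ℕ} (h : ∀ r ∈ s, r ^ p = 1) :
    ∑ i ∈ Finset.range p, (s.map (· ^ i)).sum =
      (p : ℂ) * (Multiset.card (s.filter fun r => r = 1) : ℂ) := by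
  induction s using Multiset.induction with
  | empty => simp
  | cons a t ih =>
    simp only [Multiset.map_cons, Multiset.sum_cons, Finset.sum_add_distrib]
    rw [ih (fun r hr => h r (Multiset.mem_cons_of_mem hr)), Multiset.filter_cons]
    by_cases h1 : a = 1
    · simp [h1]; ring
    · rw [geom_sum_eq h1, h a (Multiset.mem_cons_self a t), sub_self, zero_div]
      simp [h1]

/-- A linear character of a cyclic quotient with a prescribed value at the generator. -/
theorem exists_twist {N : Subgroup H} [N.Normal] {x : H} (hgen : N ⊔ Subgroup.zpowers x = ⊤)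
    {c : ℂ} (hc : c ^ orderOf ((x : H) : H ⧸ N) = 1) :
    ∃ μ : H →* ℂˣ, (∀ n ∈ N, μ n = 1) ∧ (μ x : ℂ) = c := by
  have hne : c ≠ 0 := fun e => by
    rw [e, zero_pow (orderOf_pos _).ne'] at hc; exact zero_ne_one hc
  have hall : ∀ y : H ⧸ N, y ∈ Subgroup.zpowers ((x : H) : H ⧸ N) := by
    intro y
    obtain ⟨g, rfl⟩ := QuotientGroup.mk'_surjective N y
    have h1 : (N ⊔ Subgroup.zpowers x).map (QuotientGroup.mk' N) ≤
        Subgroup.zpowers ((x : H) : H ⧸ N) := by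
      rw [Subgroup.map_sup, MonoidHom.map_zpowers]
      refine sup_le ?_ le_rfl
      rintro _ ⟨n, hn, rfl⟩
      rw [QuotientGroup.mk'_apply, (QuotientGroup.eq_one_iff n).2 hn]
      exact one_mem _
    exact h1 (Subgroup.mem_map_of_mem _ (hgen ▸ Subgroup.mem_top g))
  have hd : orderOf (Units.mk0 c hne) ∣ orderOf ((x : H) : H ⧸ N) :=
    orderOf_dvd_of_pow_eq_one (Units.ext (by simpa using hc))
  refine ⟨(monoidHomOfForallMemZpowers hall hd).comp (QuotientGroup.mk' N), fun n hn => ?_, ?_⟩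
  · show monoidHomOfForallMemZpowers hall hd (QuotientGroup.mk' N n) = 1
    rw [QuotientGroup.mk'_apply, (QuotientGroup.eq_one_iff n).2 hn, map_one]
  · show ((monoidHomOfForallMemZpowers hall hd ((x : H) : H ⧸ N) : ℂˣ) : ℂ) = c
    rw [monoidHomOfForallMemZpowers_apply_gen]
    rfl

/-- An element of order `p` modulo the centre, acting nontrivially on a normal `q`-subgroup in an
irreducible character of degree less than `p`: the degree is `p - 1`, a power of `q`. -/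
theorem degree_eq_pred {p q : ℕ} (hp : p.Prime) (hq : q.Prime) (hqp : q ≠ p) {N : Subgroup H}
    [N.Normal] {e : ℕ} (hN : Nat.card N = q ^ e) {x : H} {k : ℕ} (hx : orderOf x = p ^ k)
    (hgen : N ⊔ Subgroup.zpowers x = ⊤) (hxp : x ^ p ∈ Subgroup.center H) {ψ : H → ℂ}
    (hψ : IsIrrCharacter H ψ) {d : ℕ} (hd : ψ 1 = (d : ℂ)) (hdp : d < p)
    (hnc : ∃ n ∈ N, ψ (x * n * x⁻¹ * n⁻¹) ≠ ψ 1) :
    d + 1 = p ∧ ∃ j, d = q ^ j := by
  classical
  haveI := Fintype.ofFinite N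
  haveI := Fact.mk hp
  obtain ⟨d', hd'0, hd'⟩ := irr_degree_pos hψ
  have hdd : d' = d := by exact_mod_cast hd'.symm.trans hd
  subst hdd
  -- the quotient
  set xb : H ⧸ N := ((x : H) : H ⧸ N) with hxb
  have hgen' : ∀ g : H, ∃ n ∈ N, ∃ i : ℤ, g = n * x ^ i := by
    intro g
    have hg : g ∈ ((N ⊔ Subgroup.zpowers x : Subgroup H) : Set H) := hgen ▸ Subgroup.mem_top g
    rw [Subgroup.normal_mul] at hg
    obtain ⟨n, hn, y, hy, rfl⟩ := hg
    obtain ⟨i, rfl⟩ := Subgroup.mem_zpowers_iff.1 hy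
    exact ⟨n, hn, i, rfl⟩
  have hab : ∀ a b : H, a * b * a⁻¹ * b⁻¹ ∈ N := by
    intro a b
    obtain ⟨n, hn, i, rfl⟩ := hgen' a
    obtain ⟨m, hm, j, rfl⟩ := hgen' b
    rw [← QuotientGroup.eq_one_iff]
    simp only [QuotientGroup.mk_mul, QuotientGroup.mk_inv, (QuotientGroup.eq_one_iff n).2 hn,
      (QuotientGroup.eq_one_iff m).2 hm, one_mul, QuotientGroup.mk_zpow]
    group
  have hidx : N.index ∣ p ^ k := by
    rw [← hx, show N.index = Nat.card (H ⧸ N) from rfl, ← orderOf_eq_card_of_forall_mem_zpowers (g := xb)]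
    · exact orderOf_map_dvd (QuotientGroup.mk' N) x
    · intro y
      obtain ⟨g, rfl⟩ := QuotientGroup.mk'_surjective N y
      obtain ⟨n, hn, i, rfl⟩ := hgen' g
      refine ⟨i, ?_⟩
      show xb ^ i = QuotientGroup.mk' N (n * x ^ i)
      rw [map_mul, map_zpow, QuotientGroup.mk'_apply, (QuotientGroup.eq_one_iff n).2 hn, one_mul]
      rfl
  -- the restriction is irreducible
  have hrc : IsCharacter N (fun n : N => ψ n) := isCharacter_restrict (isCharacter_of_irr hψ) N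
  obtain ⟨θ, hθ, hθc⟩ := exists_constituent hrc (fun h => irr_ne_zero hψ (congrFun h 1))
  obtain ⟨m, hm⟩ := classInner_char_nat hrc (isCharacter_of_irr hθ)
  obtain ⟨t, ht0, ht⟩ := irr_degree_pos hθ
  have hdeg := clifford_degree N hψ hθ hθc
  rw [hd, hm, ht, ← Nat.cast_mul, ← Nat.cast_mul, Nat.cast_inj] at hdeg
  have hm0 : m ≠ 0 := fun e => hθc (by rw [hm, e, Nat.cast_zero])
  have hNle : N ≤ inertia N θ := fun n hn => (mem_inertia N).2 (funext fun a => by
    have h := (isClassFunction_irr hθ) a ⟨n, hn⟩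
    exact h)
  have hone : ∀ r : ℕ, r ∣ p ^ k → r ≤ d' → r = 1 := by
    intro r hr hle
    obtain ⟨i, -, rfl⟩ := (Nat.dvd_prime_pow hp).1 hr
    rcases Nat.eq_zero_or_pos i with rfl | hi
    · exact pow_zero p
    · have := Nat.le_self_pow hi.ne' p
      omega
  have hI : (inertia N θ).index = 1 := by
    refine hone _ ((Subgroup.index_dvd_of_le hNle).trans hidx) ?_
    rw [hdeg]
    calc (inertia N θ).index = 1 * (inertia N θ).index * 1 := by ring
      _ ≤ m * (inertia N θ).index * t := Nat.mul_le_mul (Nat.mul_le_mul (by omega) le_rfl) ht0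
  have hinv : ∀ g : H, conjNormFun N g θ = θ := fun g =>
    (mem_inertia N).1 (Subgroup.index_eq_one.1 hI ▸ Subgroup.mem_top g)
  obtain ⟨ee, C, hee0, heC, -, hC, hCmem⟩ := exists_constituents_invariant N hθ hinv hab
  have hres : (fun n : N => ψ n) = θ := by
    have h1 := (hC ψ (hCmem ψ hψ hθc)).2
    have h2 : ee = 1 := by
      refine hone _ ((dvd_trans ⟨ee * C.card, by ring⟩ (dvd_of_eq heC)).trans hidx) ?_
      have h3 := congrFun h1 1
      simp only [OneMemClass.coe_one, hd, Pi.smul_apply, ht, smul_eq_mul] at h3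
      have h4 : d' = ee * t := by exact_mod_cast h3
      rw [h4]
      exact Nat.le_mul_of_pos_right _ ht0
    rw [h1, h2, Nat.cast_one, one_smul]
  have hθ1 : d' = t := by
    have h := congrFun hres 1
    simp only [OneMemClass.coe_one, hd, ht] at h
    exact_mod_cast h
  obtain ⟨j, -, hj⟩ : ∃ j ≤ e, t = q ^ j := by
    refine (Nat.dvd_prime_pow hq).1 (hN ▸ ?_)
    have h1 := charDegree_dvd_card (⟨θ, hθ⟩ : IrrCharacter N)
    have h2 : charDegree θ = t := by simp [charDegree, ht]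
    rwa [h2] at h1
  refine ⟨?_, j, by omega⟩
  by_contra hne
  obtain ⟨n, hn, hnψ⟩ := hnc
  by_cases hd1 : d' = 1
  · obtain ⟨f, rfl⟩ := exists_hom_of_degree_one (isCharacter_of_irr hψ) (by rw [hd, hd1, Nat.cast_one])
    apply hnψ
    simp [mul_comm]
  have hp3 : 3 ≤ p := by omega
  -- twisting
  have hlin : ∀ μ : H →* ℂˣ, (∀ n ∈ N, μ n = 1) → ∀ φ, IsIrrCharacter H φ →
      (∀ n ∈ N, φ n = ψ n) → IsIrrCharacter H (fun g => φ g * (μ g : ℂ)) ∧
        ∀ n ∈ N, φ n * (μ n : ℂ) = ψ n := fun μ hμ φ hφ hφn =>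
    ⟨isIrrCharacter_mul_linear hφ (isIrrCharacter_linear μ) (by simp),
      fun n hn => by rw [hμ n hn, Units.val_one, mul_one, hφn n hn]⟩
  have hxbo : orderOf xb = p ^ k := by
    refine Nat.dvd_antisymm (hx ▸ orderOf_map_dvd (QuotientGroup.mk' N) x) ?_
    rw [← hx, orderOf_dvd_iff_pow_eq_one]
    have hmem : x ^ orderOf xb ∈ N := by
      rw [← QuotientGroup.eq_one_iff, QuotientGroup.mk_pow]
      exact pow_orderOf_eq_one xb
    have h1 : orderOf (x ^ orderOf xb) ∣ Nat.card N := Subgroup.orderOf_dvd_natCard N hmem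
    have h2 : orderOf (x ^ orderOf xb) ∣ p ^ k := hx ▸ orderOf_pow_dvd _
    rw [← orderOf_eq_one_iff]
    refine Nat.eq_one_of_dvd_coprimes ?_ (hN ▸ h1) h2
    exact Nat.Coprime.pow _ _ ((Nat.coprime_primes hq hp).2 hqp)
  have hk0 : k ≠ 0 := by
    intro e0
    apply hnψ
    rw [e0, pow_zero] at hx
    rw [orderOf_eq_one_iff.1 hx]
    simp
  -- the scalar of the central element
  obtain ⟨s, hs, hspow⟩ := exists_roots_pow (isCharacter_of_irr hψ) x
  have hcard : Multiset.card s = d' := by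
    have h := hspow 0
    rw [pow_zero, hd] at h
    simp only [pow_zero, Multiset.map_const', Multiset.sum_replicate, nsmul_eq_mul, mul_one] at h
    exact_mod_cast h.symm
  obtain ⟨w, hw, hwψ⟩ : ∃ w : ℂ, ‖w‖ = 1 ∧ ψ (x ^ p) = (d' : ℂ) * w := by
    set Z := Subgroup.zpowers (x ^ p)
    haveI := Fintype.ofFinite Z
    have hZ : Z ≤ Subgroup.center H := Subgroup.zpowers_le.2 hxp
    have hzc : IsCharacter Z (fun z : Z => ψ z) := isCharacter_restrict (isCharacter_of_irr hψ) Z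
    obtain ⟨ν, hν, hνc⟩ := exists_constituent hzc (fun h => irr_ne_zero hψ (congrFun h 1))
    have hν1 : ν 1 = 1 := degree_one_of_commutative (fun a b => Subtype.ext
      ((Subgroup.mem_center_iff.1 (hZ b.2)) a)) hν
    obtain ⟨f, rfl⟩ := exists_hom_of_degree_one (isCharacter_of_irr hν) hν1
    refine ⟨(f ⟨x ^ p, Subgroup.mem_zpowers _⟩ : ℂ), Complex.norm_eq_one_of_pow_eq_one
      (by rw [← Units.val_pow_eq_pow_val, ← map_pow, pow_orderOf_eq_one, map_one, Units.val_one])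
      (orderOf_pos (⟨x ^ p, Subgroup.mem_zpowers _⟩ : Z)).ne', ?_⟩
    have := FongSwan.central_apply hZ (χ := ⟨ψ, hψ⟩) (μ := ⟨_, hν⟩) (by rw [FongSwan.mult_ne_zero_iff]; exact hνc)
      ⟨x ^ p, Subgroup.mem_zpowers _⟩
    simpa [hd] using this
  have hrp : ∀ r ∈ s, r ^ p = w := roots_pow_eq Nat.card_pos.ne' hs hw (by rw [← hspow, hwψ, hcard])
  have hrk : ∀ r ∈ s, r ^ (p ^ k) = 1 := roots_pow_eq Nat.card_pos.ne' hs norm_one
    (by rw [← hspow, ← hx, pow_orderOf_eq_one, hd, hcard, mul_one])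
  obtain ⟨r₀, hr₀⟩ := Multiset.card_pos_iff_exists_mem.1 (by omega : 0 < Multiset.card s)
  obtain ⟨μ, hμN, hμx⟩ := exists_twist hgen (c := r₀⁻¹)
    (by rw [← hxb, hxbo, inv_pow, hrk r₀ hr₀, inv_one])
  obtain ⟨hφ, hφN⟩ := hlin μ hμN ψ hψ (fun _ _ => rfl)
  set φ : H → ℂ := fun g => ψ g * (μ g : ℂ) with hφdef
  have hφp : φ (x ^ p) = (d' : ℂ) := by
    show ψ (x ^ p) * (μ (x ^ p) : ℂ) = _
    rw [map_pow, Units.val_pow_eq_pow_val, hμx, hwψ, inv_pow, hrp r₀ hr₀, mul_assoc,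
      mul_inv_cancel₀ (norm_ne_zero_iff.1 (by rw [hw]; norm_num)), mul_one]
  -- the power map
  obtain ⟨g₀, hg₀⟩ := IsCyclic.exists_generator (α := (ZMod p)ˣ)
  obtain ⟨mm, hmm1, hmm2⟩ := Nat.chineseRemainder
    (((Nat.coprime_primes hp hq).2 hqp.symm).pow k e) (g₀ : ZMod p).val 1
  have hmmp : (mm : ZMod p) = (g₀ : ZMod p) := by
    rw [(ZMod.natCast_eq_natCast_iff' mm (g₀ : ZMod p).val p).2
      (hmm1.of_dvd (dvd_pow_self p hk0)), ZMod.natCast_zmod_val]
  have hg1 : (g₀ : ZMod p) ≠ 1 := by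
    intro h
    have h1 : g₀ = 1 := Units.ext h
    have h2 := Finset.card_le_one_iff.2 (fun {a b} (_ : a ∈ (Finset.univ : Finset (ZMod p)ˣ)) _ => by
      obtain ⟨i, hi⟩ := hg₀ a
      obtain ⟨i', hi'⟩ := hg₀ b
      simp only [h1, one_zpow] at hi hi'
      rw [← hi, ← hi'])
    rw [Finset.card_univ, ZMod.card_units] at h2
    omega
  have hcop : mm.Coprime (Nat.card H) := by
    have hH : Nat.card H ∣ p ^ k * q ^ e := by
      rw [← Subgroup.card_mul_index N, hN, mul_comm (q ^ e)]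
      exact Nat.mul_dvd_mul_right hidx _
    refine Nat.Coprime.coprime_dvd_right hH (Nat.Coprime.mul_right ?_ ?_)
    · refine Nat.Coprime.pow_right _ ((hp.coprime_iff_not_dvd.2 fun h => ?_).symm)
      rw [← ZMod.natCast_eq_zero_iff, hmmp] at h
      exact g₀.ne_zero h
    · rcases Nat.eq_zero_or_pos e with rfl | he
      · simp
      · refine Nat.Coprime.pow_right _ ((hq.coprime_iff_not_dvd.2 fun h => ?_).symm)
        have h1 : mm ≡ 1 [MOD q] := hmm2.of_dvd (dvd_pow_self q he.ne')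
        exact hq.not_dvd_one ((Nat.ModEq.dvd_iff h1 dvd_rfl).1 h)
  have hfix : ∀ n ∈ N, n ^ mm = n := fun n hn => by
    conv_rhs => rw [← pow_one n]
    rw [pow_eq_pow_iff_modEq]
    exact hmm2.of_dvd (hN ▸ Subgroup.orderOf_dvd_natCard N hn)
  have hσ := isIrrCharacter_pow hφ hcop
  obtain ⟨-, -, hgall⟩ := gallagher N (isCharacter_of_irr hφ)
    (by rw [show (fun n : N => φ n) = θ from funext fun n => (hφN n n.2).trans (congrFun hres n)]; exact hθ)
  obtain ⟨β, hβ, hβN, hβe⟩ := hgall _ hσ (by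
    rw [show (fun n : N => φ ((n : H) ^ mm)) = fun n : N => φ n from funext fun n => by rw [hfix n n.2],
      show (fun n : N => φ n) = θ from funext fun n => (hφN n n.2).trans (congrFun hres n),
      classInner_irr_self hθ]
    exact one_ne_zero)
  have hφ1 : φ 1 = (d' : ℂ) := by simp [φ, hd]
  have hd0 : (d' : ℂ) ≠ 0 := Nat.cast_ne_zero.2 (by omega)
  have hβ1 : β 1 = 1 := by
    have h := congrFun hβe 1
    simp only [one_pow, Pi.mul_apply, hφ1] at h
    exact mul_right_cancel₀ hd0 (by rw [one_mul]; exact h.symm)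
  obtain ⟨f, rfl⟩ := exists_hom_of_degree_one (isCharacter_of_irr hβ) hβ1
  have hfN : ∀ n ∈ N, f n = 1 := fun n hn => Units.ext (by simpa using hβN n hn)
  obtain ⟨s₁, hs₁, hs₁pow⟩ := exists_roots_pow (isCharacter_of_irr hφ) x
  have hcard₁ : Multiset.card s₁ = d' := by
    have h := hs₁pow 0
    rw [pow_zero, hφ1] at h
    simp only [pow_zero, Multiset.map_const', Multiset.sum_replicate, nsmul_eq_mul, mul_one] at h
    exact_mod_cast h.symm
  have hr1 : ∀ r ∈ s₁, r ^ p = 1 := roots_pow_eq Nat.card_pos.ne' hs₁ norm_one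
    (by rw [← hs₁pow, hφp, hcard₁, mul_one])
  have hfp : (f x : ℂ) ^ p = 1 := by
    have h := congrFun hβe (x ^ p)
    simp only [Pi.mul_apply, hφp] at h
    have h2 : φ ((x ^ p) ^ mm) = (d' : ℂ) := by
      rw [← pow_mul, hs₁pow, sum_pow_of_eq_one (fun r hr => by rw [pow_mul, hr1 r hr, one_pow]), hcard₁]
    rw [h2] at h
    rw [← Units.val_pow_eq_pow_val, ← map_pow]
    exact mul_right_cancel₀ hd0 (by rw [one_mul]; exact h.symm)
  -- the fixed twist
  obtain ⟨u, hu⟩ : ∃ u : ℕ, (u : ZMod p) * ((mm : ZMod p) - 1) = -1 := by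
    refine ⟨(-((mm : ZMod p) - 1)⁻¹).val, ?_⟩
    rw [ZMod.natCast_zmod_val, neg_mul, inv_mul_cancel₀ (sub_ne_zero.2 (hmmp ▸ hg1))]
  have hu' : (f x : ℂ) ^ (u * mm + 1) = (f x : ℂ) ^ u := by
    refine pow_eq_pow_of_modEq ?_ hfp
    rw [← ZMod.natCast_eq_natCast_iff]
    push_cast
    linear_combination hu
  obtain ⟨ν, hνN, hνx⟩ := exists_twist hgen (c := (f x : ℂ) ^ u)
    (by
      rw [← hxb, hxbo]
      obtain ⟨k', rfl⟩ := Nat.exists_eq_succ_of_ne_zero hk0
      rw [← pow_mul, pow_succ', mul_comm, mul_assoc, pow_mul, hfp, one_pow])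
  obtain ⟨hψ'', hψ''N⟩ := hlin ν hνN φ hφ hφN
  set Ψ : H → ℂ := fun g => φ g * (ν g : ℂ) with hΨdef
  have hΨfix : ∀ g, Ψ (g ^ mm) = Ψ g := by
    intro g
    obtain ⟨n', hn', i, rfl⟩ := hgen' g
    have h := congrFun hβe (n' * x ^ i)
    simp only [Pi.mul_apply] at h
    show φ _ * (ν _ : ℂ) = φ _ * (ν _ : ℂ)
    rw [h, map_mul f, hfN n' hn', map_pow ν, map_mul ν, hνN n' hn', one_mul, one_mul, map_zpow,
      map_zpow]
    push_cast
    rw [hνx, mul_comm ((f x : ℂ) ^ i), mul_assoc]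
    congr 1
    rw [← zpow_natCast (((f x : ℂ) ^ u) ^ i), ← zpow_mul, mul_comm i, zpow_mul, zpow_natCast,
      ← mul_zpow, ← pow_mul, ← pow_succ', hu']
  obtain ⟨s₂, hs₂, hs₂pow⟩ := exists_roots_pow (isCharacter_of_irr hψ'') x
  have hΨ1 : Ψ 1 = (d' : ℂ) := by simp [Ψ, hφ1]
  have hΨp : Ψ (x ^ p) = (d' : ℂ) := by
    show φ (x ^ p) * (ν (x ^ p) : ℂ) = _
    rw [hφp, map_pow, Units.val_pow_eq_pow_val, hνx, ← pow_mul, mul_comm u, pow_mul, hfp, one_pow,
      mul_one]
  have hcard₂ : Multiset.card s₂ = d' := by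
    have h := hs₂pow 0
    rw [pow_zero, hΨ1] at h
    simp only [pow_zero, Multiset.map_const', Multiset.sum_replicate, nsmul_eq_mul, mul_one] at h
    exact_mod_cast h.symm
  have hr2 : ∀ r ∈ s₂, r ^ p = 1 := roots_pow_eq Nat.card_pos.ne' hs₂ norm_one
    (by rw [← hs₂pow, hΨp, hcard₂, mul_one])
  have hiter : ∀ i : ℕ, Ψ (x ^ (mm ^ i)) = Ψ x := by
    intro i
    induction i with
    | zero => rw [pow_zero, pow_one]
    | succ i ih => rw [pow_succ, pow_mul, hΨfix, ih]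
  have hconst : ∀ i ∈ Finset.Ico 1 p, (s₂.map (· ^ i)).sum = Ψ x := by
    intro i hi
    rw [Finset.mem_Ico] at hi
    have hi0 : (i : ZMod p) ≠ 0 := fun h => by
      rw [ZMod.natCast_eq_zero_iff] at h
      exact absurd (Nat.le_of_dvd (by omega) h) (by omega)
    obtain ⟨z, hz⟩ := (mem_powers_iff_mem_zpowers.2 (hg₀ (Units.mk0 _ hi0)) :
      Units.mk0 (i : ZMod p) hi0 ∈ Submonoid.powers g₀)
    rw [← hiter z, hs₂pow]
    refine congrArg Multiset.sum (Multiset.map_congr rfl fun r hr => ?_)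
    refine (pow_eq_pow_of_modEq ?_ (hr2 r hr)).symm
    rw [← ZMod.natCast_eq_natCast_iff, Nat.cast_pow, hmmp]
    exact congrArg Units.val hz
  set m₀ := Multiset.card (s₂.filter fun r => r = 1) with hm₀
  have hgeom : ∑ i ∈ Finset.range p, (s₂.map (· ^ i)).sum = (p : ℂ) * m₀ := by
    exact sum_range_sum_pow hr2
  rw [Finset.range_eq_Ico, Finset.sum_eq_sum_Ico_succ_bot hp.pos, Finset.sum_congr rfl hconst,
    Finset.sum_const, Nat.card_Ico, nsmul_eq_mul, ← hs₂pow, pow_zero, hΨ1] at hgeom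
  have hm₀le : m₀ ≤ d' := hcard₂ ▸ Multiset.card_le_card (Multiset.filter_le _ _)
  have hp1 : ((p - 1 : ℕ) : ℂ) ≠ 0 := Nat.cast_ne_zero.2 (by omega)
  obtain ⟨z, hz⟩ := exists_int_of_isIntegral_ratCast
    (q := ((p : ℚ) * m₀ - d') / ((p - 1 : ℕ) : ℚ)) (by
      have e : ((((p : ℚ) * m₀ - d') / ((p - 1 : ℕ) : ℚ) : ℚ) : ℂ) = Ψ x := by
        push_cast [Rat.cast_natCast]
        rw [div_eq_iff hp1]
        linear_combination -hgeom
      rw [e]
      exact isIntegral_of_char (isCharacter_of_irr hψ'') x)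
  rw [div_eq_iff (Nat.cast_ne_zero.2 (by omega))] at hz
  have hz' : (p : ℤ) * m₀ - d' = z * ((p - 1 : ℕ) : ℤ) := by exact_mod_cast hz
  have hm₀eq : m₀ = d' := by
    have hdv : ((p - 1 : ℕ) : ℤ) ∣ ((d' - m₀ : ℕ) : ℤ) := by
      refine ⟨(m₀ : ℤ) - z, ?_⟩
      push_cast [Nat.cast_sub hm₀le, Nat.cast_sub hp.one_le] at hz' ⊢
      linear_combination -hz'
    have h1 := Nat.eq_zero_of_dvd_of_lt (Int.natCast_dvd_natCast.1 hdv) (by omega)
    omega
  have hall : ∀ r ∈ s₂, r = 1 := by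
    have h1 := Multiset.eq_of_le_of_card_le (Multiset.filter_le (fun r : ℂ => r = 1) s₂) (by omega)
    intro r hr
    rw [← h1] at hr
    exact (Multiset.mem_filter.1 hr).2
  apply hnψ
  rw [hd]
  have hker : Ψ x = Ψ 1 := by
    rw [← pow_one x, hs₂pow, sum_pow_of_eq_one (fun r hr => by rw [hall r hr, one_pow]), hcard₂, hΨ1]
  obtain ⟨mρ, ρ, hρ⟩ := isCharacter_of_irr hψ''
  have h1 : ρ x = 1 := rep_apply_eq_one_of_char_eq ρ (by rw [hρ]; exact hker)
  have h2 : x * n * x⁻¹ * n⁻¹ ∈ N :=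
    N.mul_mem ((inferInstance : N.Normal).conj_mem n hn x) (N.inv_mem hn)
  rw [← hψ''N _ h2, ← hΨ1]
  show Ψ _ = Ψ 1
  have h3 : ρ x⁻¹ = 1 := by
    have := map_mul ρ x x⁻¹
    rw [mul_inv_cancel, map_one, h1, one_mul] at this
    exact this.symm
  have h4 : ρ (x * n * x⁻¹ * n⁻¹) = ρ 1 := by
    rw [ρ.map_mul, ρ.map_mul, ρ.map_mul, h1, h3, one_mul, mul_one, ← ρ.map_mul, mul_inv_cancel]
  rw [show Ψ = ρ.character from hρ.symm, Representation.character, Representation.character, h4]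

end CfsgLib.PSolvableLinear
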