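import Cfsg.Agent.Lib.PSolvableLinear.FullyRamified
import Cfsg.Agent.Lib.Coprime

/-!
# Winter's theorem on solvable linear groups with a non-normal Sylow subgroup
-/

namespace CfsgLib.PSolvableLinear

open Cfsg CfsgLib CfsgLib.CharTheory CfsgLib.Blocks
open scoped ComplexConjugate

set_option autoImplicit false
set_option linter.unusedSectionVars false
set_option linter.style.haveILetI false

universe u

/-- No prime power divisor of `n` is congruent to `0` or `±1` modulo `p`. -/
def NoGoodDivisor (p n : ℕ) : Prop :=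
  ∀ q : ℕ, IsPrimePow q → q ∣ n →
    ¬ ((q : ℤ) ≡ -1 [ZMOD p] ∨ (q : ℤ) ≡ 0 [ZMOD p] ∨ (q : ℤ) ≡ 1 [ZMOD p])

theorem NoGoodDivisor.mono {p m n : ℕ} (h : NoGoodDivisor p n) (hm : m ∣ n) : NoGoodDivisor p m :=
  fun q hq hqm => h q hq (hqm.trans hm)

theorem NoGoodDivisor.not_dvd {p n : ℕ} (hp : p.Prime) (h : NoGoodDivisor p n) : ¬ p ∣ n := fun hd =>
  h p hp.isPrimePow hd (Or.inr (Or.inl ((Int.modEq_zero_iff_dvd).2 dvd_rfl)))

theorem NoGoodDivisor.of_sq {p n r a e : ℕ} (hp : p.Prime) (h : NoGoodDivisor p n) (hr : r.Prime)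
    (he : e = r ^ a) (ha : a ≠ 0) (hd : e ∣ n) (hcong : e ^ 2 ≡ 1 [MOD p]) : False := by
  have h1 : (p : ℤ) ∣ (1 : ℤ) - (e : ℤ) ^ 2 := by
    have := (Nat.modEq_iff_dvd.1 hcong)
    push_cast at this
    exact this
  have h2 : (p : ℤ) ∣ ((e : ℤ) - 1) * ((e : ℤ) + 1) := by
    have := h1.neg_right
    rwa [show -((1 : ℤ) - (e : ℤ) ^ 2) = ((e : ℤ) - 1) * ((e : ℤ) + 1) by ring] at this
  refine h e (he ▸ (hr.isPrimePow.pow ha)) hd ?_
  rcases (Nat.prime_iff_prime_int.1 hp).dvd_or_dvd h2 with h3 | h3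
  · exact Or.inr (Or.inr (Int.modEq_iff_dvd.2 (by simpa using h3.neg_right)))
  · refine Or.inl (Int.modEq_iff_dvd.2 ?_)
    have := h3.neg_right
    rwa [show -((e : ℤ) + 1) = -1 - (e : ℤ) by ring] at this

section

variable {G : Type u} [Group G] [Fintype G]

theorem le_normalizer_of_commutator {A B : Subgroup G} (h : ∀ a ∈ A, ∀ b ∈ B, a * b * a⁻¹ ∈ B) :
    A ≤ Subgroup.normalizer (B : Set G) := by
  intro a ha
  rw [Subgroup.mem_normalizer_iff]
  refine fun b => ⟨h a ha b, fun hb => ?_⟩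
  have := h a⁻¹ (inv_mem ha) _ hb
  simpa [mul_assoc] using this

/-- The normal subgroups inherit a normal Sylow subgroup from the quotients by the kernels of the
constituents. -/
theorem sylow_inf_normal {p n : ℕ} [Fact p.Prime] (hsolv : Group.IsSolvable G) (P : Sylow p G) (M : Subgroup G) [M.Normal]
    [Fintype M] (hM : M ≠ ⊤) {χ : G → ℂ} (hχ : IsIrrCharacter G χ)
    (hfaith : ∀ g : G, χ g = χ 1 → g = 1) (hn : χ 1 = (n : ℂ)) (hno : NoGoodDivisor p n)
    (ih : ∀ (H : Type u) [Group H] [Fintype H], Nat.card H < Nat.card G → ∀ (ψ : H → ℂ),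
      IsIrrCharacter H ψ → (∀ g : H, ψ g = ψ 1 → g = 1) → ∀ m : ℕ, ψ 1 = (m : ℂ) →
      NoGoodDivisor p m → Group.IsSolvable H → ∀ Q : Sylow p H, (Q : Subgroup H).Normal) :
    ((P : Subgroup G) ⊓ M).Normal := by
  classical
  have hcardM : Nat.card M < Nat.card G :=
    lt_of_le_of_ne (Subgroup.card_le_card_group M) fun h => hM (Subgroup.eq_top_of_card_eq M h)
  have hrc : IsCharacter M (fun m : M => χ m) := isCharacter_restrict (isCharacter_of_irr hχ) M
  set Q := sylowInfNormal P M with hQ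
  -- the quotient attached to each constituent
  have hquot : ∀ θ : IrrCharacter M, classInner (fun m : M => χ m) (θ : M → ℂ) ≠ 0 →
      ∀ (y : M) (a : M), a ∈ (Q : Subgroup M) →
        ∃ b ∈ (Q : Subgroup M), (θ : M → ℂ) ((y * a * y⁻¹) * b⁻¹) = (θ : M → ℂ) 1 := by
    intro θ hθ y a ha
    obtain ⟨m', ρ, hρ⟩ := isCharacter_of_irr θ.2
    set C := MonoidHom.ker ρ
    have hCk : ∀ g ∈ C, (θ : M → ℂ) g = (θ : M → ℂ) 1 := fun g hg => by
      rw [← hρ, Representation.character, Representation.character, MonoidHom.mem_ker.1 hg, ρ.map_one]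
    obtain ⟨ψ, hψ, hψe⟩ := exists_quotient_irr C θ.2 hCk
    haveI := Fintype.ofFinite (M ⧸ C)
    obtain ⟨t, -, ht⟩ := irr_degree_pos θ.2
    have htn : t ∣ n := by
      obtain ⟨m, hm⟩ := classInner_char_nat hrc (isCharacter_of_irr θ.2)
      have h := clifford_degree M hχ θ.2 hθ
      rw [hn, hm, ht, ← Nat.cast_mul, ← Nat.cast_mul, Nat.cast_inj] at h
      exact h ▸ dvd_mul_left _ _
    have hlt : Nat.card (M ⧸ C) < Nat.card G :=
      lt_of_le_of_lt (Nat.le_of_dvd Nat.card_pos (Subgroup.card_quotient_dvd_card C)) hcardM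
    have hN := ih (M ⧸ C) hlt ψ hψ (fun g hg => by
      obtain ⟨x, rfl⟩ := QuotientGroup.mk'_surjective C g
      rw [QuotientGroup.mk'_apply, QuotientGroup.eq_one_iff]
      refine MonoidHom.mem_ker.2 (rep_apply_eq_one_of_char_eq ρ ?_)
      rw [hρ, hψe]
      exact hg) t (by rw [← ht, hψe]; rfl) (hno.mono htn) (by
        haveI := hsolv
        haveI : Group.IsSolvable M := Group.isSolvable_of_isSolvable_injective (f := M.subtype) M.subtype_injective
        exact Group.isSolvable_of_surjective (QuotientGroup.mk'_surjective C))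
      (Q.mapSurjective (QuotientGroup.mk'_surjective C))
    have h1 := hN.conj_mem _ (show QuotientGroup.mk' C a ∈
      ((Q.mapSurjective (QuotientGroup.mk'_surjective C) : Sylow p (M ⧸ C)) : Subgroup (M ⧸ C)) from
        Subgroup.mem_map_of_mem _ ha) (QuotientGroup.mk' C y)
    obtain ⟨b, hb, hbe⟩ := h1
    refine ⟨b, hb, hCk _ ?_⟩
    rw [← QuotientGroup.eq_one_iff, ← QuotientGroup.mk'_apply, map_mul, map_mul, map_mul, map_inv,
      map_inv, ← hbe, mul_inv_cancel]
  -- the subgroup of those elements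
  let W : Subgroup M :=
    { carrier := {u | ∀ θ : IrrCharacter M, classInner (fun m : M => χ m) (θ : M → ℂ) ≠ 0 →
        ∃ b ∈ (Q : Subgroup M), (θ : M → ℂ) (u * b⁻¹) = (θ : M → ℂ) 1}
      one_mem' := fun θ _ => ⟨1, one_mem _, by rw [inv_one, mul_one]⟩
      mul_mem' := by
        intro u v hu hv θ hθ
        obtain ⟨b, hb, hbe⟩ := hu θ hθ
        obtain ⟨c, hc, hce⟩ := hv θ hθ
        refine ⟨b * c, mul_mem hb hc, ?_⟩
        obtain ⟨m', ρ, hρ⟩ := isCharacter_of_irr θ.2
        have e1 : ρ (u * b⁻¹) = 1 := rep_apply_eq_one_of_char_eq ρ (by rw [hρ]; exact hbe)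
        have e2 : ρ (v * c⁻¹) = 1 := rep_apply_eq_one_of_char_eq ρ (by rw [hρ]; exact hce)
        rw [show u * v * (b * c)⁻¹ = u * (v * c⁻¹) * b⁻¹ by group, ← hρ, Representation.character,
          Representation.character, ρ.map_mul, ρ.map_mul, e2, mul_one, ← ρ.map_mul, e1, ρ.map_one]
      inv_mem' := by
        intro u hu θ hθ
        obtain ⟨b, hb, hbe⟩ := hu θ hθ
        refine ⟨b⁻¹, inv_mem hb, ?_⟩
        obtain ⟨m', ρ, hρ⟩ := isCharacter_of_irr θ.2
        have e1 : ρ (u * b⁻¹) = 1 := rep_apply_eq_one_of_char_eq ρ (by rw [hρ]; exact hbe)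
        have e2 : ρ u = ρ b := by
          conv_lhs => rw [show u = u * b⁻¹ * b by group]
          rw [ρ.map_mul, e1, one_mul]
        have e3 : ρ (u⁻¹ * b) = 1 := by
          rw [ρ.map_mul, ← e2, ← ρ.map_mul, inv_mul_cancel, ρ.map_one]
        rw [inv_inv, ← hρ, Representation.character, Representation.character, e3, ρ.map_one] }
  have hWp : IsPGroup p W := by
    intro u
    obtain ⟨k, hk⟩ := IsPGroup.iff_card.1 Q.2
    refine ⟨k, Subtype.ext ?_⟩
    show ((u : M) ^ p ^ k) = 1
    refine Subtype.ext (hfaith _ ?_)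
    obtain ⟨c, hc, -⟩ := res_decomp (isCharacter_of_irr hχ) M hn
    rw [show χ 1 = χ ((1 : M) : G) from rfl, hc, hc]
    refine Finset.sum_congr rfl fun θ _ => ?_
    by_cases h0 : c θ = 0
    · rw [h0, Nat.cast_zero, zero_mul, zero_mul]
    congr 1
    have hθ : classInner (fun m : M => χ m) (θ : M → ℂ) ≠ 0 := by
      rw [show (fun m : M => χ m) = ∑ β : IrrCharacter M, (c β : ℂ) • (β : M → ℂ) from
        funext fun m => by rw [hc]; simp [Finset.sum_apply], classInner_sum_left,
        Finset.sum_eq_single θ, classInner_smul_left, classInner_irr_self θ.2, mul_one]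
      · exact Nat.cast_ne_zero.2 h0
      · intro β _ hb
        rw [classInner_smul_left, classInner_irr_ne β.2 θ.2 (fun e => hb (Subtype.ext e)), mul_zero]
      · simp
    obtain ⟨b, hb, hbe⟩ := u.2 θ hθ
    obtain ⟨m', ρ, hρ⟩ := isCharacter_of_irr θ.2
    have e1 : ρ ((u : M) * b⁻¹) = 1 := rep_apply_eq_one_of_char_eq ρ (by rw [hρ]; exact hbe)
    have e2 : ρ (u : M) = ρ b := by
      conv_lhs => rw [show (u : M) = (u : M) * b⁻¹ * b by group]
      rw [ρ.map_mul, e1, one_mul]
    have e3 : b ^ p ^ k = 1 := by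
      have := pow_card_eq_one' (x := (⟨b, hb⟩ : (Q : Subgroup M)))
      rw [hk] at this
      exact congrArg Subtype.val this
    rw [← hρ, Representation.character, Representation.character, map_pow, e2, ← map_pow, e3]
  have hWQ : W = (Q : Subgroup M) := Q.3 hWp fun b hb θ _ => ⟨b, hb, by rw [mul_inv_cancel]⟩
  have hQn : (Q : Subgroup M).Normal := ⟨fun a ha y => hWQ ▸ (fun θ hθ => hquot θ hθ y a ha :
    y * a * y⁻¹ ∈ W)⟩
  -- characteristic in `M`
  have hmap : (Q : Subgroup M).map M.subtype = (P : Subgroup G) ⊓ M := by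
    rw [hQ, coe_sylowInfNormal, Subgroup.subgroupOf_map_subtype]
  rw [← hmap]
  haveI := hQn
  haveI : (Q : Subgroup M).Characteristic := Sylow.characteristic_of_normal Q hQn
  infer_instance

/-- The inductive step. -/
theorem winter_step {p n : ℕ} [Fact p.Prime] (hsolv : Group.IsSolvable G)
    (P : Sylow p G) {χ : G → ℂ} (hχ : IsIrrCharacter G χ)
    (hfaith : ∀ g : G, χ g = χ 1 → g = 1) (hn : χ 1 = (n : ℂ)) (hno : NoGoodDivisor p n)
    (ih : ∀ (H : Type u) [Group H] [Fintype H], Nat.card H < Nat.card G → ∀ (ψ : H → ℂ),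
      IsIrrCharacter H ψ → (∀ g : H, ψ g = ψ 1 → g = 1) → ∀ m : ℕ, ψ 1 = (m : ℂ) →
      NoGoodDivisor p m → Group.IsSolvable H → ∀ Q : Sylow p H, (Q : Subgroup H).Normal) :
    (P : Subgroup G).Normal := by
  classical
  by_contra hP
  have hp : p.Prime := Fact.out
  have hnp : ¬ p ∣ n := hno.not_dvd hp
  have hinf : ∀ M : Subgroup G, M.Normal → M ≠ ⊤ → ((P : Subgroup G) ⊓ M).Normal := by
    intro M hMn hMt
    haveI := Fintype.ofFinite M
    exact sylow_inf_normal hsolv P M hMt hχ hfaith hn hno ih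
  haveI := hsolv
  -- every normal subgroup containing `P` is the whole group
  have htop : ∀ L : Subgroup G, L.Normal → (P : Subgroup G) ≤ L → L = ⊤ := fun L hL hPL => by
    by_contra hne
    exact hP (inf_eq_left.2 hPL ▸ hinf L hL hne)
  haveI : Nontrivial G := by
    by_contra hnt
    rw [not_nontrivial_iff_subsingleton] at hnt
    exact hP ⟨fun a ha g => by rwa [Subsingleton.elim (g * a * g⁻¹) a]⟩
  -- a normal subgroup of index `p`
  obtain ⟨M, hMn, hMidx⟩ : ∃ M : Subgroup G, M.Normal ∧ M.index = p := by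
    have hcomm : commutator G < ⊤ := Group.IsSolvable.commutator_lt_top_of_nontrivial G
    obtain ⟨M, ⟨hMle, hMt⟩, hMmax⟩ := (Set.toFinite {M : Subgroup G | commutator G ≤ M ∧ M ≠ ⊤}).exists_maximal
      ⟨commutator G, le_rfl, hcomm.ne⟩
    haveI hMn : M.Normal := Subgroup.Normal.of_commutator_le _ hMle
    refine ⟨M, hMn, ?_⟩
    have hPM : ¬ (P : Subgroup G) ≤ M := fun h => hMt (htop M hMn h)
    obtain ⟨y, hyP, hyM⟩ := SetLike.not_le_iff_exists.1 hPM
    obtain ⟨i, hi⟩ := P.2 ⟨y, hyP⟩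
    have hi' : y ^ p ^ i = 1 := congrArg Subtype.val hi
    -- an element of order `p` in the quotient
    obtain ⟨j, hj, hjo⟩ : ∃ j, y ^ p ^ j ∉ M ∧ (y ^ p ^ j) ^ p ∈ M := by
      have hex : ∃ j, y ^ p ^ j ∈ M := ⟨i, hi'.symm ▸ one_mem M⟩
      have h0 : Nat.find hex ≠ 0 := fun e => hyM (by simpa [e] using Nat.find_spec hex)
      refine ⟨Nat.find hex - 1, Nat.find_min hex (by omega), ?_⟩
      rw [← pow_mul, ← pow_succ, show Nat.find hex - 1 + 1 = Nat.find hex by omega]
      exact Nat.find_spec hex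
    have htopM : M ⊔ Subgroup.zpowers (y ^ p ^ j) = ⊤ := by
      by_contra hne
      exact hj (hMmax (y := M ⊔ Subgroup.zpowers (y ^ p ^ j))
        ⟨hMle.trans le_sup_left, hne⟩ le_sup_left (Subgroup.mem_sup_right (Subgroup.mem_zpowers _)))
    have ho : orderOf ((y ^ p ^ j : G) : G ⧸ M) = p := by
      refine orderOf_eq_prime ?_ ?_
      · rw [← QuotientGroup.mk_pow, QuotientGroup.eq_one_iff]; exact hjo
      · rw [Ne, QuotientGroup.eq_one_iff]; exact hj
    rw [show M.index = Nat.card (G ⧸ M) from rfl, ← orderOf_eq_card_of_forall_mem_zpowers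
      (g := ((y ^ p ^ j : G) : G ⧸ M)), ho]
    intro z
    obtain ⟨g, rfl⟩ := QuotientGroup.mk'_surjective M z
    have h1 : (M ⊔ Subgroup.zpowers (y ^ p ^ j)).map (QuotientGroup.mk' M) ≤
        Subgroup.zpowers ((y ^ p ^ j : G) : G ⧸ M) := by
      rw [Subgroup.map_sup, MonoidHom.map_zpowers]
      refine sup_le ?_ le_rfl
      rintro _ ⟨m, hm, rfl⟩
      rw [QuotientGroup.mk'_apply, (QuotientGroup.eq_one_iff m).2 hm]
      exact one_mem _
    exact h1 (Subgroup.mem_map_of_mem _ (htopM ▸ Subgroup.mem_top g))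
  haveI := hMn
  have hMt : M ≠ ⊤ := fun h => by rw [h, Subgroup.index_top] at hMidx; exact hp.one_lt.ne hMidx
  have hsup : ∀ L : Subgroup G, M ≤ L → L ≠ M → L = ⊤ := by
    intro L hML hne
    rcases hp.eq_one_or_self_of_dvd _ (hMidx ▸ Subgroup.index_dvd_of_le hML) with h | h
    · exact Subgroup.index_eq_one.1 h
    · exfalso
      refine hne (Subgroup.eq_of_le_of_card_ge hML (le_of_eq ?_)).symm
      exact Nat.eq_of_mul_eq_mul_right hp.pos (by
        rw [← h, L.card_mul_index, h, ← hMidx, M.card_mul_index])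
  -- the Sylow subgroup of `M` is normal in `G`
  set R := (P : Subgroup G) ⊓ M with hR
  haveI hRn : R.Normal := hinf M hMn hMt
  have hPM : ¬ (P : Subgroup G) ≤ M := fun h => hMt (htop M hMn h)
  have hRM : R < M := by
    refine lt_of_le_of_ne inf_le_right fun h => ?_
    have h1 : M ≤ (P : Subgroup G) := h ▸ inf_le_left
    have h2 : (P : Subgroup G) = ⊤ := hsup _ h1 fun h3 => hPM (le_of_eq h3)
    exact hP (h2 ▸ inferInstance)
  obtain ⟨N, ⟨hNn, hRN, hNM⟩, hNmax⟩ := (Set.toFinite {N : Subgroup G | N.Normal ∧ R ≤ N ∧ N < M}).exists_maximal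
    ⟨R, hRn, le_rfl, hRM⟩
  haveI := hNn
  have hchief : ∀ L : Subgroup G, L.Normal → N ≤ L → L ≤ M → L = N ∨ L = M := by
    intro L hL hNL hLM
    rcases eq_or_lt_of_le hLM with h | h
    · exact Or.inr h
    · exact Or.inl (le_antisymm (hNmax (y := L) ⟨hL, hRN.trans hNL, h⟩ hNL) hNL)
  -- the factor is abelian
  have hMab : ∀ a ∈ M, ∀ b ∈ M, a * b * a⁻¹ * b⁻¹ ∈ N := by
    rcases hchief (⁅M, M⁆ ⊔ N) inferInstance le_sup_right
        (sup_le (Subgroup.commutator_le_right M M) hNM.le) with h | h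
    · intro a ha b hb
      rw [← h, ← commutatorElement_def]
      exact Subgroup.mem_sup_left (Subgroup.commutator_mem_commutator ha hb)
    · exfalso
      haveI : Group.IsSolvable (G ⧸ N) := Group.isSolvable_of_surjective (QuotientGroup.mk'_surjective N)
      have hne : M.map (QuotientGroup.mk' N) ≠ ⊥ := fun h0 => hNM.not_ge fun m hm => by
        rw [← QuotientGroup.eq_one_iff, ← QuotientGroup.mk'_apply, ← Subgroup.mem_bot, ← h0]
        exact Subgroup.mem_map_of_mem _ hm
      refine (Group.IsSolvable.commutator_lt_of_ne_bot hne).ne ?_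
      conv_rhs => rw [← h, Subgroup.map_sup, QuotientGroup.map_mk'_self, sup_bot_eq]
      rw [Subgroup.map_commutator]
  -- the factor is a `r`-group, `r ≠ p`
  have hidxp : ¬ p ∣ N.relIndex M := by
    intro hd
    exact not_dvd_relIndex_of_sylow P M (hd.trans (by
      rw [← Subgroup.inf_relIndex_right (P : Subgroup G) M]
      exact Subgroup.relIndex_dvd_of_le_left M hRN))
  have hidx1 : N.relIndex M ≠ 1 := fun h => hNM.not_ge (Subgroup.relIndex_eq_one.1 h)
  obtain ⟨r, hr, hrd⟩ := Nat.exists_prime_and_dvd hidx1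
  haveI := Fact.mk hr
  set N' := N.subgroupOf M with hN'
  haveI hN'n : N'.Normal := Subgroup.Normal.comap inferInstance _
  obtain ⟨a, ha⟩ : ∃ a, N.relIndex M = r ^ a := by
    let T : Subgroup G :=
      { carrier := {u | u ∈ M ∧ ∃ k, u ^ r ^ k ∈ N}
        one_mem' := ⟨one_mem M, 0, by simp⟩
        inv_mem' := by
          rintro u ⟨hu, k, hk⟩
          exact ⟨inv_mem hu, k, by rw [inv_pow]; exact inv_mem hk⟩
        mul_mem' := by
          rintro u v ⟨hu, k, hk⟩ ⟨hv, l, hl⟩
          refine ⟨mul_mem hu hv, k + l, ?_⟩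
          rw [← QuotientGroup.eq_one_iff, QuotientGroup.mk_pow, QuotientGroup.mk_mul,
            (show Commute (u : G ⧸ N) (v : G ⧸ N) by
              rw [Commute, SemiconjBy, ← mul_inv_eq_one, mul_inv_rev, ← QuotientGroup.mk_mul,
                ← QuotientGroup.mk_inv, ← QuotientGroup.mk_inv, ← QuotientGroup.mk_mul,
                ← QuotientGroup.mk_mul, QuotientGroup.eq_one_iff]
              rw [show u * v * (u⁻¹ * v⁻¹) = u * v * u⁻¹ * v⁻¹ by group]
              exact hMab u hu v hv).mul_pow]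
          rw [← QuotientGroup.mk_pow, ← QuotientGroup.mk_pow, pow_add, pow_mul, mul_comm (r ^ k) (r ^ l),
            pow_mul v, (QuotientGroup.eq_one_iff _).2 (N.pow_mem hk _),
            (QuotientGroup.eq_one_iff _).2 (N.pow_mem hl _), one_mul] }
    have hTn : T.Normal := ⟨fun u ⟨hu, k, hk⟩ g => ⟨hMn.conj_mem u hu g, k, by
      rw [conj_pow]; exact hNn.conj_mem _ hk g⟩⟩
    have hNT : N ≤ T := fun u hu => ⟨hNM.le hu, 0, by simpa using hu⟩
    rcases hchief T hTn hNT (fun u hu => hu.1) with hT | hT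
    · exfalso
      obtain ⟨z, hz⟩ := exists_prime_orderOf_dvd_card' (G := M ⧸ N') r hrd
      obtain ⟨u, rfl⟩ := QuotientGroup.mk'_surjective N' z
      have huT : (u : G) ∈ T := ⟨u.2, 1, by
        rw [pow_one, ← SubgroupClass.coe_pow]
        refine Subgroup.mem_subgroupOf.1 ((QuotientGroup.eq_one_iff (N := N') _).1 ?_)
        rw [QuotientGroup.mk_pow, ← hz]
        exact pow_orderOf_eq_one _⟩
      rw [hT] at huT
      rw [QuotientGroup.mk'_apply, (QuotientGroup.eq_one_iff (N := N') u).2 (Subgroup.mem_subgroupOf.2 huT),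
        orderOf_one] at hz
      exact hr.one_lt.ne hz
    · refine (IsPGroup.iff_card (p := r) (G := M ⧸ N')).1 fun z => ?_
      obtain ⟨u, rfl⟩ := QuotientGroup.mk'_surjective N' z
      obtain ⟨-, k, hk⟩ : (u : G) ∈ T := by rw [hT]; exact u.2
      refine ⟨k, ?_⟩
      rw [← map_pow, QuotientGroup.mk'_apply, QuotientGroup.eq_one_iff]
      exact Subgroup.mem_subgroupOf.2 (by rw [SubgroupClass.coe_pow]; exact hk)
  have hrp : r ≠ p := fun h => hidxp (h ▸ hrd)
  have ha0 : a ≠ 0 := fun h => hidx1 (by rw [ha, h, pow_zero])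
  -- the subgroup `N P`
  set L := N ⊔ (P : Subgroup G) with hL
  have hLtop : L ≠ ⊤ := by
    intro h
    apply hNM.not_ge
    intro m hm
    have hm' : m ∈ ((N ⊔ (P : Subgroup G) : Subgroup G) : Set G) := by
      show m ∈ L
      rw [h]; exact Subgroup.mem_top m
    rw [Subgroup.normal_mul] at hm'
    obtain ⟨u, hu, v, hv, rfl⟩ := hm'
    exact mul_mem hu (hRN ⟨hv, by simpa using mul_mem (inv_mem (hNM.le hu)) hm⟩)
  have hPL : (P : Subgroup G) ≤ L := le_sup_right
  have hML : M ⊔ L = ⊤ := hsup _ le_sup_left fun h => hPM (le_trans hPL (h ▸ le_sup_right))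
  have hLM : L ⊓ M = N := by
    refine le_antisymm (fun u hu => ?_) (le_inf le_sup_left hNM.le)
    have hu' : u ∈ ((N ⊔ (P : Subgroup G) : Subgroup G) : Set G) := hu.1
    rw [Subgroup.normal_mul] at hu'
    obtain ⟨s, hs, v, hv, rfl⟩ := hu'
    exact mul_mem hs (hRN ⟨hv, by simpa using mul_mem (inv_mem (hNM.le hs)) hu.2⟩)
  have hLidx : L.index = r ^ a := by
    have h1 := Subgroup.relIndex_mul_index (le_sup_left : N ≤ L)
    have h2 := Subgroup.relIndex_mul_index hNM.le
    have h3 : N.relIndex L = p := by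
      rw [← hLM, inf_comm, Subgroup.inf_relIndex_right, ← Subgroup.relIndex_sup_left, hML,
        Subgroup.relIndex_top_right, hMidx]
    rw [h3] at h1
    rw [ha, hMidx, ← h1, mul_comm] at h2
    exact (Nat.eq_of_mul_eq_mul_left hp.pos h2).symm
  -- `r ^ a ≡ 1`
  have hmod : r ^ a ≡ 1 [MOD p] := by
    have hNL : Subgroup.normalizer (L : Set G) = L := by
      refine le_antisymm ?_ Subgroup.le_normalizer
      have hn' : (Subgroup.normalizer (L : Set G) ⊓ M).Normal := by
        rw [← Subgroup.normalizer_eq_top_iff, eq_top_iff, ← hML]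
        refine sup_le ?_ ?_
        · refine le_normalizer_of_commutator fun m hm u hu => ?_
          rw [show m * u * m⁻¹ = (m * u * m⁻¹ * u⁻¹) * u by group]
          exact mul_mem ⟨Subgroup.le_normalizer ((le_sup_left : N ≤ L) (hMab m hm u hu.2)),
            hNM.le (hMab m hm u hu.2)⟩ hu
        · refine le_normalizer_of_commutator fun m hm u hu => ?_
          refine Subgroup.mem_inf.2 ⟨?_, hMn.conj_mem u hu.2 m⟩
          exact mul_mem (mul_mem (Subgroup.le_normalizer hm) hu.1) (inv_mem (Subgroup.le_normalizer hm))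
      have hge : N ≤ Subgroup.normalizer (L : Set G) ⊓ M :=
        le_inf (le_sup_left.trans Subgroup.le_normalizer) hNM.le
      rcases hchief _ hn' hge inf_le_right with h | h
      · intro g hg
        have hg' : g ∈ ((M ⊔ L : Subgroup G) : Set G) := hML ▸ Subgroup.mem_top g
        rw [Subgroup.normal_mul] at hg'
        obtain ⟨m, hm, l, hl, rfl⟩ := hg'
        refine mul_mem (?_ : m ∈ L) hl
        refine (le_sup_left : N ≤ L) (h ▸ Subgroup.mem_inf.2 ⟨?_, hm⟩)
        simpa using mul_mem hg (inv_mem (Subgroup.le_normalizer hl))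
      · exfalso
        have hLn : L.Normal := by
          rw [← Subgroup.normalizer_eq_top_iff, eq_top_iff, ← hML]
          exact sup_le (h ▸ inf_le_left) Subgroup.le_normalizer
        exact hLtop (htop L hLn hPL)
    have hNP : Subgroup.normalizer ((P : Subgroup G) : Set G) ≤ L := by
      refine le_trans ?_ hNL.le
      intro g hg
      rw [Subgroup.mem_normalizer_iff]
      intro u
      have key : ∀ g ∈ Subgroup.normalizer ((P : Subgroup G) : Set G), ∀ u ∈ L, g * u * g⁻¹ ∈ L := by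
        intro g hg u hu
        have hu' : u ∈ ((N ⊔ (P : Subgroup G) : Subgroup G) : Set G) := hu
        rw [Subgroup.normal_mul] at hu'
        obtain ⟨s, hs, v, hv, rfl⟩ := hu'
        rw [show g * (s * v) * g⁻¹ = (g * s * g⁻¹) * (g * v * g⁻¹) by group]
        exact Subgroup.mul_mem_sup (hNn.conj_mem s hs g) ((Subgroup.mem_normalizer_iff.1 hg v).1 hv)
      refine ⟨key g hg u, fun h => ?_⟩
      have := key _ (inv_mem hg) _ h
      simpa [mul_assoc] using this
    have hG := Sylow.card_eq_index_normalizer P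
    have hGm := card_sylow_modEq_one p G
    set PL := P.subtype hPL with hPLdef
    have hLm := card_sylow_modEq_one p L
    rw [Sylow.card_eq_index_normalizer PL] at hLm
    have hsame : (Subgroup.normalizer (PL : Set L)) =
        (Subgroup.normalizer ((P : Subgroup G) : Set G)).subgroupOf L :=
      (Subgroup.subgroupOf_normalizer_eq hPL).symm
    rw [hsame] at hLm
    have hmul : Nat.card (Sylow p G) =
        ((Subgroup.normalizer ((P : Subgroup G) : Set G)).subgroupOf L).index * r ^ a := by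
      rw [hG, ← hLidx]
      exact (Subgroup.relIndex_mul_index hNP).symm
    rw [hmul] at hGm
    exact ((Nat.ModEq.mul_right (r ^ a) hLm).symm.trans hGm |> fun h => by rwa [one_mul] at h)
  -- the constituents below
  haveI := Fintype.ofFinite M
  haveI := Fintype.ofFinite N'
  haveI := Fintype.ofFinite L
  obtain ⟨ψ, hψ, hψc⟩ := exists_constituent (isCharacter_restrict (isCharacter_of_irr hχ) M)
    (fun h => irr_ne_zero hχ (congrFun h 1))
  have hχM : IsIrrCharacter M (fun m : M => χ m) := by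
    obtain ⟨m, hm⟩ := classInner_char_nat (isCharacter_restrict (isCharacter_of_irr hχ) M) (isCharacter_of_irr hψ)
    obtain ⟨t, ht0, ht⟩ := irr_degree_pos hψ
    have h := clifford_degree M hχ hψ hψc
    rw [hn, hm, ht, ← Nat.cast_mul, ← Nat.cast_mul, Nat.cast_inj] at h
    have hI : (inertia M ψ).index ∣ p := hMidx ▸ Subgroup.index_dvd_of_le (le_inertia M (isClassFunction_irr hψ))
    have hI1 : (inertia M ψ).index = 1 := by
      rcases hp.eq_one_or_self_of_dvd _ hI with h1 | h1
      · exact h1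
      · exact absurd (h ▸ dvd_mul_of_dvd_left (dvd_mul_of_dvd_right (dvd_of_eq h1.symm) m) t) hnp
    have hinvM : ∀ g : G, conjNormFun M g ψ = ψ := fun g =>
      (mem_inertia M).1 (Subgroup.index_eq_one.1 hI1 ▸ Subgroup.mem_top g)
    have habG : ∀ a b : G, a * b * a⁻¹ * b⁻¹ ∈ M := by
      intro a b
      haveI := isCyclic_of_prime_card (α := G ⧸ M) (p := p) hMidx
      obtain ⟨z, hz⟩ := IsCyclic.exists_generator (α := G ⧸ M)
      obtain ⟨i, hi⟩ := hz (a : G ⧸ M)
      obtain ⟨j, hj⟩ := hz (b : G ⧸ M)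
      simp only at hi hj
      rw [← QuotientGroup.eq_one_iff]
      simp only [QuotientGroup.mk_mul, QuotientGroup.mk_inv, ← hi, ← hj]
      group
    obtain ⟨e, C, he0, heC, -, hC, hCm⟩ := exists_constituents_invariant M hψ hinvM habG
    obtain ⟨-, hres⟩ := hC χ (hCm χ hχ hψc)
    have he1 : e = 1 := by
      rw [hMidx] at heC
      rcases hp.eq_one_or_self_of_dvd _ (Dvd.intro (e * C.card) (by rw [← heC]; ring)) with h1 | h1
      · exact h1
      · exfalso
        have : p ^ 2 ∣ p := ⟨C.card, by rw [h1] at heC; exact heC.symm⟩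
        have := Nat.le_of_dvd hp.pos this
        nlinarith [hp.two_le]
    rw [hres, he1, Nat.cast_one, one_smul]
    exact hψ
  have hχN : IsCharacter N' (fun u : N' => χ ((u : M) : G)) :=
    isCharacter_restrict (isCharacter_of_irr hχM) N'
  obtain ⟨θ, hθ, hθc⟩ := exists_constituent hχN (fun h => irr_ne_zero hχM (congrFun h 1))
  obtain ⟨t, ht0, ht⟩ := irr_degree_pos hθ
  obtain ⟨m, hm⟩ := classInner_char_nat hχN (isCharacter_of_irr hθ)
  have hdeg := clifford_degree N' hχM hθ hθc
  simp only [OneMemClass.coe_one, hn, ht] at hdeg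
  rw [hm, ← Nat.cast_mul, ← Nat.cast_mul, Nat.cast_inj] at hdeg
  have hidxN' : N'.index = r ^ a := ha
  -- the inertia group
  have hI : (inertia N' θ).index = 1 := by
    have hd : (inertia N' θ).index ∣ r ^ a :=
      hidxN' ▸ Subgroup.index_dvd_of_le (le_inertia N' (isClassFunction_irr hθ))
    obtain ⟨b, hb, hbe⟩ := (Nat.dvd_prime_pow hr).1 hd
    rcases Nat.eq_zero_or_pos b with rfl | hb0
    · rw [hbe, pow_zero]
    exfalso
    -- the orbit in `G`
    set e : N' ≃* N := Subgroup.subgroupOfEquivOfLe hNM.le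
    haveI := Fintype.ofFinite N
    set θG : N → ℂ := fun u => θ (e.symm u) with hθG
    have hθGirr : IsIrrCharacter N θG := isIrrCharacter_comp_surjective hθ e.symm.toMonoidHom e.symm.surjective
    set T := inertia N θG with hT
    have hTM : ∀ g : M, g ∈ inertia N' θ ↔ (g : G) ∈ T := by
      intro g
      rw [hT, mem_inertia, mem_inertia]
      constructor
      · intro h
        funext u
        exact congrFun h (e.symm u)
      · intro h
        funext u
        have := congrFun h (e u)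
        simp only [hθG, conjNormFun] at this
        rw [e.symm_apply_apply] at this
        exact this
    have hTn : (T ⊓ M).Normal := by
      have hTnotM : ¬ T ≤ M := by
        intro hle
        have h1 : p ∣ T.index := hMidx ▸ Subgroup.index_dvd_of_le hle
        obtain ⟨ψc, hψc'⟩ := classInner_char_nat
          (isCharacter_restrict (isCharacter_of_irr hχ) N) (isCharacter_of_irr hθGirr)
        have hne : classInner (fun u : N => χ u) θG ≠ 0 := by
          intro h0
          apply hθc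
          rw [← h0]
          simp only [classInner, hθG]
          rw [Nat.card_congr e.toEquiv]
          congr 1
          refine Fintype.sum_equiv e.toEquiv _ _ fun u => ?_
          show χ ((u : M) : G) * conj (θ u) = χ (e u) * conj (θ (e.symm (e u)))
          rw [e.symm_apply_apply]
          rfl
        have hdG := clifford_degree N hχ hθGirr hne
        rw [hn, hψc', show θG 1 = (t : ℂ) by simp [hθG, ht], ← Nat.cast_mul, ← Nat.cast_mul, Nat.cast_inj] at hdG
        exact hnp (hdG ▸ dvd_mul_of_dvd_left (dvd_mul_of_dvd_right h1 ψc) t)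
      have hTM' : M ⊔ T = ⊤ := hsup _ le_sup_left fun h => hTnotM (h ▸ le_sup_right)
      rw [← Subgroup.normalizer_eq_top_iff, eq_top_iff, ← hTM']
      have hNT : N ≤ T := le_inertia N (isClassFunction_irr hθGirr)
      refine sup_le ?_ ?_
      · refine le_normalizer_of_commutator fun m hm u hu => ?_
        rw [show m * u * m⁻¹ = (m * u * m⁻¹ * u⁻¹) * u by group]
        exact mul_mem ⟨hNT (hMab m hm u hu.2), hNM.le (hMab m hm u hu.2)⟩ hu
      · refine le_normalizer_of_commutator fun m hm u hu => ?_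
        refine Subgroup.mem_inf.2 ⟨?_, hMn.conj_mem u hu.2 m⟩
        exact mul_mem (mul_mem hm hu.1) (inv_mem hm)
    have hI' : inertia N' θ = (T ⊓ M).subgroupOf M := by
      ext g
      rw [hTM g, Subgroup.mem_subgroupOf, Subgroup.mem_inf]
      exact ⟨fun h => ⟨h, g.2⟩, fun h => h.1⟩
    rcases hchief _ hTn (le_inf (le_inertia N (isClassFunction_irr hθGirr)) hNM.le) inf_le_right with h | h
    · have hba : (inertia N' θ).index = r ^ a := by rw [hI', h]; exact hidxN'
      refine hno (r ^ a) (hr.isPrimePow.pow ha0) ?_ (Or.inr (Or.inr ?_))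
      · rw [hdeg, ← hba]; exact dvd_mul_of_dvd_left (dvd_mul_left _ m) t
      · exact_mod_cast (Int.natCast_modEq_iff.2 hmod)
    · rw [hI', h, Subgroup.subgroupOf_self, Subgroup.index_top] at hbe
      exact (Nat.one_lt_pow hb0.ne' hr.one_lt).ne hbe
  have hinv : ∀ g : M, conjNormFun N' g θ = θ := fun g =>
    (mem_inertia N').1 (Subgroup.index_eq_one.1 hI ▸ Subgroup.mem_top g)
  have habM : ∀ x y : M, x * y * x⁻¹ * y⁻¹ ∈ N' := fun x y =>
    Subgroup.mem_subgroupOf.2 (hMab x x.2 y y.2)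
  have hres : (fun u : N' => χ ((u : M) : G)) = (m : ℂ) • θ := by
    rw [← hm]; exact clifford_invariant N' hχM hθ hθc hinv
  have hmn : n = m * t := by rw [hdeg, hI, mul_one]
  -- the support
  have hm1 : m = 1 := by
    set Y : Set G := {g | g ∈ M ∧ χ g ≠ 0} ∪ (N : Set G) with hY
    set V := Subgroup.closure Y
    have hVn : V.Normal := by
      refine ⟨fun u hu g => ?_⟩
      have hle : V ≤ V.comap (MulAut.conj g).toMonoidHom := by
        rw [Subgroup.closure_le]
        intro v hv
        refine Subgroup.subset_closure ?_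
        show g * v * g⁻¹ ∈ Y
        rcases hv with ⟨hv1, hv2⟩ | hv
        · refine Or.inl ⟨hMn.conj_mem v hv1 g, ?_⟩
          rwa [isClassFunction_irr hχ v g]
        · exact Or.inr (hNn.conj_mem v hv g)
      exact hle hu
    have hVle : V ≤ M := (Subgroup.closure_le M).2 (by
      rintro v (⟨hv, -⟩ | hv)
      · exact hv
      · exact hNM.le hv)
    rcases hchief V hVn (fun u hu => Subgroup.subset_closure (Or.inr hu)) hVle with h | h
    · exfalso
      have hsq := sq_mult_eq_index N' hχM hθ hres (fun g hg => by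
        by_contra hne
        exact hg (Subgroup.mem_subgroupOf.2 (h ▸ Subgroup.subset_closure (Or.inl ⟨g.2, hne⟩))))
      rw [hidxN'] at hsq
      obtain ⟨c, -, hc⟩ := (Nat.dvd_prime_pow hr).1 (Dvd.intro m (by rw [← sq]; exact hsq) : m ∣ r ^ a)
      have hc0 : c ≠ 0 := fun e0 => by
        rw [hc, e0, pow_zero, one_pow] at hsq
        exact (Nat.one_lt_pow ha0 hr.one_lt).ne hsq
      exact hno.of_sq hp hr hc hc0 (hmn ▸ dvd_mul_right m t) (hsq ▸ hmod)
    · refine mult_eq_one N' habM hχM hθ hres ?_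
      apply Subgroup.map_injective M.subtype_injective
      rw [MonoidHom.map_closure, ← MonoidHom.range_eq_map, Subgroup.range_subtype]
      refine le_antisymm ((Subgroup.closure_le M).2 (by rintro _ ⟨u, -, rfl⟩; exact u.2)) ?_
      refine h.symm.le.trans ((Subgroup.closure_le _).2 ?_)
      rintro v (⟨hv1, hv2⟩ | hv)
      · exact Subgroup.subset_closure ⟨⟨v, hv1⟩, Or.inl hv2, rfl⟩
      · exact Subgroup.subset_closure ⟨⟨v, hNM.le hv⟩, Or.inr (Subgroup.mem_subgroupOf.2 hv), rfl⟩
  -- the restriction to `N P` is irreducible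
  have hNLn : (N.subgroupOf L).Normal := Subgroup.Normal.comap inferInstance _
  haveI := Fintype.ofFinite (N.subgroupOf L)
  have hNLirr : IsIrrCharacter (N.subgroupOf L) (fun u : N.subgroupOf L => χ ((u : L) : G)) := by
    have h1 : IsIrrCharacter N' (fun u : N' => χ ((u : M) : G)) := by
      rw [hres, hm1, Nat.cast_one, one_smul]; exact hθ
    let e : N.subgroupOf L ≃* N' := (Subgroup.subgroupOfEquivOfLe (le_sup_left : N ≤ L)).trans
      (Subgroup.subgroupOfEquivOfLe hNM.le).symm
    exact isIrrCharacter_comp_surjective h1 e.toMonoidHom e.surjective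
  have hχL : IsIrrCharacter L (fun l : L => χ l) :=
    isIrr_of_res (isCharacter_restrict (isCharacter_of_irr hχ) L) (N.subgroupOf L) hNLirr (fun _ => rfl)
  set PL := P.subtype hPL with hPLdef
  have hPLn : (PL : Subgroup L).Normal := ih L
    (lt_of_le_of_ne (Subgroup.card_le_card_group L) fun h => hLtop (Subgroup.eq_top_of_card_eq L h))
    _ hχL (fun g hg => Subtype.ext (hfaith _ hg)) n hn hno
    (Group.isSolvable_of_isSolvable_injective (f := L.subtype) L.subtype_injective) PL
  haveI := hPLn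
  -- `P` is abelian
  have hPab : ∀ x ∈ (P : Subgroup G), ∀ y ∈ (P : Subgroup G), x * y = y * x := by
    haveI := Fintype.ofFinite (PL : Subgroup L)
    intro x hx y hy
    obtain ⟨c, hc, -⟩ := res_decomp (isCharacter_of_irr hχL) (PL : Subgroup L) (n := n) hn
    rw [← mul_inv_eq_iff_eq_mul, ← mul_inv_eq_one]
    refine hfaith _ ?_
    set xx : (PL : Subgroup L) := ⟨⟨x, hPL hx⟩, hx⟩
    set yy : (PL : Subgroup L) := ⟨⟨y, hPL hy⟩, hy⟩
    show χ (((xx * yy * xx⁻¹ * yy⁻¹ : (PL : Subgroup L)) : L) : G) = χ (((1 : (PL : Subgroup L)) : L) : G)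
    rw [hc, hc]
    refine Finset.sum_congr rfl fun α _ => ?_
    by_cases h0 : c α = 0
    · rw [h0, Nat.cast_zero, zero_mul, zero_mul]
    congr 1
    have hne : classInner (fun u : (PL : Subgroup L) => χ ((u : L) : G)) (α : ↥(PL : Subgroup L) → ℂ) ≠ 0 := by
      rw [show (fun u : (PL : Subgroup L) => χ ((u : L) : G)) =
        ∑ β : IrrCharacter (PL : Subgroup L), (c β : ℂ) • (β : ↥(PL : Subgroup L) → ℂ) from
        funext fun u => by rw [hc]; simp [Finset.sum_apply], classInner_sum_left, Finset.sum_eq_single α,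
        classInner_smul_left, classInner_irr_self α.2, mul_one]
      · exact Nat.cast_ne_zero.2 h0
      · intro β _ hb
        rw [classInner_smul_left, classInner_irr_ne β.2 α.2 (fun e => hb (Subtype.ext e)), mul_zero]
      · simp
    obtain ⟨d, hd0, hd⟩ := irr_degree_pos α.2
    obtain ⟨i, hi⟩ := classInner_char_nat (isCharacter_restrict (isCharacter_of_irr hχL) (PL : Subgroup L))
      (isCharacter_of_irr α.2)
    have hdd := clifford_degree (PL : Subgroup L) hχL α.2 hne
    rw [hi, hd, OneMemClass.coe_one, hn, ← Nat.cast_mul, ← Nat.cast_mul, Nat.cast_inj] at hdd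
    have hd1 : d = 1 := by
      obtain ⟨k, hk⟩ := IsPGroup.iff_card.1 PL.2
      have h2 : charDegree (α : ↥(PL : Subgroup L) → ℂ) = d := by simp [charDegree, hd]
      obtain ⟨j, -, hj⟩ := (Nat.dvd_prime_pow hp).1 (hk ▸ h2 ▸ charDegree_dvd_card α)
      rcases Nat.eq_zero_or_pos j with rfl | hj0
      · exact hj
      · exact absurd (hdd ▸ dvd_mul_of_dvd_right (hj ▸ dvd_pow_self p hj0.ne') _) hnp
    obtain ⟨f, hf⟩ := exists_hom_of_degree_one (isCharacter_of_irr α.2) (by rw [hd, hd1, Nat.cast_one])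
    rw [hf]
    show (f (xx * yy * xx⁻¹ * yy⁻¹) : ℂ) = (f 1 : ℂ)
    rw [map_mul, map_mul, map_mul, map_inv, map_inv, map_one, mul_right_comm (f xx), mul_inv_cancel,
      one_mul, mul_inv_cancel]
  -- a complement of `P` in `N P`
  obtain ⟨Hc, hHc⟩ := Subgroup.exists_right_complement'_of_coprime (N := (PL : Subgroup L)) PL.card_coprime_index
  set H := Hc.map L.subtype with hH
  have hcardH : (Nat.card H).Coprime (Nat.card (P : Subgroup G)) := by
    rw [hH, Subgroup.card_map_of_injective L.subtype_injective, ← hHc.symm.index_eq_card]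
    have h1 : Nat.card (PL : Subgroup L) = Nat.card (P : Subgroup G) :=
      Nat.card_congr (Subgroup.subgroupOfEquivOfLe hPL).toEquiv
    exact h1 ▸ PL.card_coprime_index.symm
  have hHL : H ≤ L := Subgroup.map_subtype_le _
  have hHN : H ≤ N := by
    intro h hh
    have hh' : h ∈ ((N ⊔ (P : Subgroup G) : Subgroup G) : Set G) := hHL hh
    rw [Subgroup.normal_mul] at hh'
    obtain ⟨s, hs, v, hv, hsv⟩ := hh'
    replace hsv : s * v = h := hsv
    rw [← QuotientGroup.eq_one_iff, ← orderOf_eq_one_iff]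
    refine Nat.eq_one_of_dvd_coprimes hcardH ?_ ?_
    · exact (orderOf_map_dvd (QuotientGroup.mk' N) h).trans (Subgroup.orderOf_dvd_natCard H hh)
    · rw [← hsv, QuotientGroup.mk_mul, (QuotientGroup.eq_one_iff s).2 hs, one_mul]
      exact (orderOf_map_dvd (QuotientGroup.mk' N) v).trans (Subgroup.orderOf_dvd_natCard _ hv)
  have hHP : H ≤ Subgroup.normalizer ((P : Subgroup G) : Set G) := by
    refine le_normalizer_of_commutator fun h hh v hv => ?_
    exact hPLn.conj_mem (⟨v, hPL hv⟩ : L) hv ⟨h, hHL hh⟩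
  obtain ⟨x, hxP, hxM⟩ := SetLike.not_le_iff_exists.1 hPM
  have hsolvP : Group.IsSolvable (P : Subgroup G) :=
    Group.isSolvable_of_isSolvable_injective (f := (P : Subgroup G).subtype) (P : Subgroup G).subtype_injective
  have hNR : Subgroup.normalizer (R : Set G) = ⊤ := Subgroup.normalizer_eq_top R
  obtain ⟨c, ⟨hcP, hcH⟩, hcx⟩ := coprime_fixed_quotient (A := H) (K := (P : Subgroup G)) (N := R) hHP
    hcardH (Or.inr hsolvP) inf_le_left (hNR ▸ le_top) (hNR ▸ le_top) hxP (fun h hh => by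
      refine Subgroup.mem_inf.2 ⟨mul_mem ((Subgroup.mem_normalizer_iff.1 (hHP hh) x).1 hxP) (inv_mem hxP), hNM.le ?_⟩
      rw [show h * x * h⁻¹ * x⁻¹ = h * (x * h⁻¹ * x⁻¹) by group]
      exact mul_mem (hHN hh) (hNn.conj_mem _ (inv_mem (hHN hh)) x))
  have hcM : c ∉ M := fun h => hxM (by
    have := mul_mem h (inv_mem (hcx.2 : x⁻¹ * c ∈ M))
    simpa [mul_assoc] using this)
  -- it centralizes `N P`
  have hcL : ∀ l ∈ L, l * c = c * l := by
    intro l hl
    obtain ⟨⟨v, h⟩, hvh⟩ := hHc.2 ⟨l, hl⟩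
    have e : ((v : L) : G) * ((h : L) : G) = l := congrArg Subtype.val hvh
    have h1 := hPab _ (v.2 : ((v : L) : G) ∈ (P : Subgroup G)) c hcP
    have h2 : ((h : L) : G) * c = c * ((h : L) : G) := hcH _ (Subgroup.mem_map_of_mem _ h.2)
    rw [← e, mul_assoc, h2, ← mul_assoc, show ((v : L) : G) * c = c * ((v : L) : G) from h1, mul_assoc]
  set cL : L := ⟨c, hPL hcP⟩
  have hcz : Subgroup.zpowers cL ≤ Subgroup.center L := Subgroup.zpowers_le.2
    (Subgroup.mem_center_iff.2 fun l => Subtype.ext (hcL l l.2))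
  haveI := Fintype.ofFinite (Subgroup.zpowers cL)
  obtain ⟨ν, hν, hνc⟩ := exists_constituent
    (isCharacter_restrict (isCharacter_of_irr hχL) (Subgroup.zpowers cL))
    (fun h => irr_ne_zero hχL (congrFun h 1))
  have hν1 : ν 1 = 1 := degree_one_of_commutative (fun a b => Subtype.ext
    ((Subgroup.mem_center_iff.1 (hcz b.2)) a)) hν
  obtain ⟨f, hf⟩ := exists_hom_of_degree_one (isCharacter_of_irr hν) hν1
  have hnorm : ‖χ c‖ = (n : ℝ) := by
    have h := FongSwan.central_apply hcz (χ := ⟨_, hχL⟩) (μ := ⟨ν, hν⟩)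
      (by rw [FongSwan.mult_ne_zero_iff]; exact hνc) ⟨cL, Subgroup.mem_zpowers cL⟩
    simp only [hν1, div_one, OneMemClass.coe_one, hn] at h
    rw [show χ c = χ ((cL : L) : G) from rfl, h, hf, norm_mul, Complex.norm_natCast,
      Complex.norm_eq_one_of_pow_eq_one (by rw [← Units.val_pow_eq_pow_val, ← map_pow,
        pow_orderOf_eq_one, map_one, Units.val_one]) (orderOf_pos (⟨cL, Subgroup.mem_zpowers cL⟩ :
        Subgroup.zpowers cL)).ne', mul_one]
  obtain ⟨mρ, ρ, hρ⟩ := isCharacter_of_irr hχ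
  obtain ⟨ω, hω⟩ := eq_smul_id_of_norm_character_eq ρ c (by
    have hrk : (Module.finrank ℂ (Fin mρ → ℂ) : ℂ) = (n : ℂ) := by rw [← ρ.char_one, hρ, hn]
    rw [hρ, hnorm]
    exact_mod_cast hrk.symm)
  have hcentral : ∀ g : G, g * c = c * g := by
    intro g
    rw [← mul_inv_eq_iff_eq_mul, ← mul_inv_eq_one]
    refine hfaith _ ?_
    have h1 : ρ (g * c) = ρ (c * g) := by
      rw [ρ.map_mul, ρ.map_mul, hω]
      refine LinearMap.ext fun w => ?_
      simp
    have h2 : g * c * g⁻¹ * c⁻¹ = (g * c) * (c * g)⁻¹ := by group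
    rw [h2, ← hρ, Representation.character, Representation.character, ρ.map_mul, h1, ← ρ.map_mul,
      mul_inv_cancel]
  -- conclusion
  refine hP ⟨fun v hv g => ?_⟩
  haveI := isCyclic_of_prime_card (α := G ⧸ M) (p := p) hMidx
  obtain ⟨i, hi⟩ : (v : G ⧸ M) ∈ Subgroup.zpowers (c : G ⧸ M) := by
    refine mem_zpowers_of_prime_card hMidx ?_
    rw [Ne, QuotientGroup.eq_one_iff]
    exact hcM
  have hwR : v * (c ^ i)⁻¹ ∈ R := by
    refine Subgroup.mem_inf.2 ⟨mul_mem hv (inv_mem (zpow_mem (show c ∈ (P : Subgroup G) from hcP) i)), ?_⟩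
    rw [← QuotientGroup.eq_one_iff, QuotientGroup.mk_mul, QuotientGroup.mk_inv, QuotientGroup.mk_zpow]
    simp only at hi
    rw [hi, mul_inv_cancel]
  have hconj : g * v * g⁻¹ = (g * (v * (c ^ i)⁻¹) * g⁻¹) * c ^ i := by
    have hcc : Commute g (c ^ i) := (Commute.zpow_right (hcentral g) i)
    have h4 : g⁻¹ * c ^ i = c ^ i * g⁻¹ := hcc.inv_left.eq
    rw [show g * (v * (c ^ i)⁻¹) * g⁻¹ * c ^ i = g * v * (c ^ i)⁻¹ * (g⁻¹ * c ^ i) by group, h4]
    group
  rw [hconj]
  exact mul_mem (Subgroup.mem_inf.1 (hRn.conj_mem _ hwR g)).1 (zpow_mem (show c ∈ (P : Subgroup G) from hcP) i)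

end

/-- Winter's theorem. -/
theorem winter {p : ℕ} [Fact p.Prime] : ∀ (N : ℕ) {G : Type u} [Group G] [Fintype G], Nat.card G = N →
    ∀ (χ : G → ℂ), IsIrrCharacter G χ → (∀ g : G, χ g = χ 1 → g = 1) → ∀ n : ℕ, χ 1 = (n : ℂ) →
      NoGoodDivisor p n → Group.IsSolvable G → ∀ P : Sylow p G, (P : Subgroup G).Normal := by
  intro N
  induction N using Nat.strong_induction_on with
  | _ N ih =>
    intro G _ _ hcard χ hχ hfaith n hn hno hsolv P
    exact winter_step hsolv P hχ hfaith hn hno fun H _ _ hlt ψ hψ hψf m hm hmno hs Q =>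
      ih (Nat.card H) (hcard ▸ hlt) rfl ψ hψ hψf m hm hmno hs Q

end CfsgLib.PSolvableLinear
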